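/-
Dimensions of fixed spaces for a fixed-point-free pair of operator groups on a vector space.
-/
import Mathlib

set_option autoImplicit false

namespace CfsgLib.FrobAction

universe u v w z

variable {K : Type u} [Field K] {V : Type v} [AddCommGroup V] [Module K V]

/-- The common fixed space of a family of operators. -/
def fixedSub {ι : Type*} (f : ι → Module.End K V) : Submodule K V := ⨅ i, LinearMap.ker (f i - 1)

theorem mem_fixedSub {ι : Type*} {f : ι → Module.End K V} {v : V} : v ∈ fixedSub f ↔ ∀ i, f i v = v := by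
  simp [fixedSub, Submodule.mem_iInf, sub_eq_zero]

theorem fixed_dim_step_closed [IsAlgClosed K] [FiniteDimensional K V] {M : Type w} [Group M] [Finite M]
    {E : Type z} [Group E] [Finite E] (τ : E →* MulAut M) (hfpf : ∀ σ : E, σ ≠ 1 → ∀ m, τ σ m = m → m = 1)
    (hM : (Nat.card M : K) ≠ 0) (α : M →* Module.End K V) (hcomm : ∀ m m', α m * α m' = α m' * α m)
    (β : E →* Module.End K V) (hcov : ∀ σ m, β σ * α m = α (τ σ m) * β σ) :
    Nat.card E * Module.finrank K ↥(fixedSub α ⊓ fixedSub β) + Module.finrank K V =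
      Nat.card E * Module.finrank K ↥(fixedSub β) + Module.finrank K ↥(fixedSub α) := by
  classical
  have : Fintype M := Fintype.ofFinite M
  have : Fintype E := Fintype.ofFinite E
  set N : Subgroup M := α.ker with hN
  let A := M ⧸ N
  have hβ : ∀ σ : E, β σ⁻¹ * β σ = 1 := fun σ => by rw [← map_mul, inv_mul_cancel, map_one]
  have hNinv : ∀ σ : E, N ≤ N.comap (τ σ).toMonoidHom := fun σ m hm => by
    simp only [hN, Subgroup.mem_comap, MonoidHom.mem_ker] at hm ⊢
    show α (τ σ m) = 1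
    have h := hcov σ m
    rw [hm, mul_one] at h
    calc α (τ σ m) = α (τ σ m) * (β σ * β σ⁻¹) := by rw [← map_mul, mul_inv_cancel, map_one, mul_one]
      _ = 1 := by rw [← mul_assoc, ← h, ← map_mul, mul_inv_cancel, map_one]
  have hA : ∀ a b : A, a * b = b * a := by
    intro a b
    induction a using QuotientGroup.induction_on with
    | _ x =>
      induction b using QuotientGroup.induction_on with
      | _ y =>
        show ((x * y : M) : M ⧸ N) = ((y * x : M) : M ⧸ N)
        rw [QuotientGroup.eq, hN, MonoidHom.mem_ker, map_mul, map_mul, hcomm y x, ← map_mul α x y,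
          ← map_mul, inv_mul_cancel, map_one]
  letI : CommGroup A := { (inferInstance : Group A) with mul_comm := hA }
  have hAK : (Nat.card A : K) ≠ 0 := fun h => hM (by
    rw [← Subgroup.index_mul_card N, Nat.cast_mul, show (N.index : K) = 0 from h, zero_mul])
  have : NeZero (Monoid.exponent A : K) := ⟨fun h => hAK (by
    obtain ⟨k, hk⟩ := Group.exponent_dvd_nat_card (G := A)
    rw [hk, Nat.cast_mul, h, zero_mul])⟩
  obtain ⟨dual⟩ := CommGroup.monoidHom_mulEquiv_of_hasEnoughRootsOfUnity A K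
  have : Fintype (A →* Kˣ) := Fintype.ofEquiv A dual.symm.toEquiv
  have hcardΛ : Fintype.card (A →* Kˣ) = Nat.card A := by
    rw [← Nat.card_eq_fintype_card]; exact Nat.card_congr dual.toEquiv
  let φ : E → (A →* A) := fun σ => QuotientGroup.map N N (τ σ).toMonoidHom (hNinv σ)
  have hφ : ∀ σ m, φ σ (QuotientGroup.mk m) = QuotientGroup.mk (τ σ m) := fun σ m => rfl
  have hfpfA : ∀ σ : E, σ ≠ 1 → ∀ a : A, φ σ a = a → a = 1 := by
    intro σ hσ a
    induction a using QuotientGroup.induction_on with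
    | _ x =>
      intro hx
      rw [hφ, eq_comm, QuotientGroup.eq] at hx
      let g : N → N := fun n => ⟨(n : M)⁻¹ * τ σ n, N.mul_mem (N.inv_mem n.2) (hNinv σ n.2)⟩
      have hg : Function.Injective g := fun n n' e => by
        have e' : (n : M)⁻¹ * τ σ n = (n' : M)⁻¹ * τ σ n' := congrArg Subtype.val e
        have h2 : τ σ ((n' : M) * (n : M)⁻¹) = (n' : M) * (n : M)⁻¹ := by
          rw [map_mul, map_inv]
          calc τ σ (n' : M) * (τ σ (n : M))⁻¹ = (n' : M) * ((n' : M)⁻¹ * τ σ n') * (τ σ (n : M))⁻¹ := by group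
            _ = _ := by rw [← e']; group
        exact Subtype.ext (eq_of_mul_inv_eq_one (hfpf σ hσ _ h2) ▸ rfl)
      obtain ⟨n, hn⟩ := (Finite.injective_iff_surjective.mp hg) ⟨_, hx⟩
      have e' : (n : M)⁻¹ * τ σ n = x⁻¹ * τ σ x := congrArg Subtype.val hn
      have h2 : τ σ ((n : M) * x⁻¹) = (n : M) * x⁻¹ := by
        rw [map_mul, map_inv]
        calc τ σ (n : M) * (τ σ x)⁻¹ = (n : M) * ((n : M)⁻¹ * τ σ n) * (τ σ x)⁻¹ := by group
          _ = _ := by rw [e']; group
      rw [← eq_of_mul_inv_eq_one (hfpf σ hσ _ h2)]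
      exact (QuotientGroup.eq_one_iff _).mpr n.2
  have hφmul : ∀ σ σ' a, φ (σ * σ') a = φ σ (φ σ' a) := by
    intro σ σ' a
    induction a using QuotientGroup.induction_on with
    | _ x => rw [hφ, hφ, hφ, map_mul, MulAut.mul_apply]
  have hφone : ∀ a, φ 1 a = a := by
    intro a
    induction a using QuotientGroup.induction_on with
    | _ x => rw [hφ, map_one, MulAut.one_apply]
  -- action on the nontrivial characters
  let Ω := {χ : A →* Kˣ // χ ≠ 1}
  letI actE : MulAction E Ω :=
    { smul := fun σ χ => ⟨χ.1.comp (φ σ⁻¹), fun h => χ.2 (by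
        refine MonoidHom.ext fun a => ?_
        have := DFunLike.congr_fun h (φ σ a)
        rw [MonoidHom.comp_apply, ← hφmul, inv_mul_cancel, hφone] at this
        exact this)⟩
      one_smul := fun χ => Subtype.ext (MonoidHom.ext fun a => by
        show χ.1 (φ (1 : E)⁻¹ a) = _; rw [inv_one, hφone])
      mul_smul := fun σ σ' χ => Subtype.ext (MonoidHom.ext fun a => by
        show χ.1 (φ (σ * σ')⁻¹ a) = χ.1 (φ σ'⁻¹ (φ σ⁻¹ a)); rw [mul_inv_rev, hφmul]) }
  have hfree : ∀ (σ : E) (χ : Ω), σ • χ = χ → σ = 1 := by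
    intro σ χ h
    by_contra hσ
    refine χ.2 (MonoidHom.ext fun b => ?_)
    let g : A → A := fun a => a⁻¹ * φ σ⁻¹ a
    have hg : Function.Injective g := fun a a' e => by
      have h2 : φ σ⁻¹ (a' * a⁻¹) = a' * a⁻¹ := by
        rw [map_mul, map_inv]
        calc φ σ⁻¹ a' * (φ σ⁻¹ a)⁻¹ = a' * (a'⁻¹ * φ σ⁻¹ a') * (φ σ⁻¹ a)⁻¹ := by group
          _ = _ := by rw [show a'⁻¹ * φ σ⁻¹ a' = a⁻¹ * φ σ⁻¹ a from e.symm]; group
      exact (eq_of_mul_inv_eq_one (hfpfA σ⁻¹ (inv_ne_one.mpr hσ) _ h2)).symm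
    obtain ⟨a, rfl⟩ := (Finite.injective_iff_surjective.mp hg) b
    have h3 : χ.1 (φ σ⁻¹ a) = χ.1 a := DFunLike.congr_fun (congrArg Subtype.val h) a
    show χ.1 (a⁻¹ * φ σ⁻¹ a) = 1
    rw [map_mul, map_inv, h3, inv_mul_cancel]
  let O := MulAction.orbitRel.Quotient E Ω
  have : Fintype O := Fintype.ofFinite O
  let par : E × O → Ω := fun q => q.1 • (q.2 : Quotient (MulAction.orbitRel E Ω)).out
  have hpar : Function.Bijective par := by
    constructor
    · rintro ⟨σ, o⟩ ⟨σ', o'⟩ h
      have h' : (σ • o.out : Ω) = σ' • o'.out := h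
      have ho : o = o' := by
        have h1 : (⟦o.out⟧ : O) = ⟦o'.out⟧ := Quotient.sound (show o.out ∈ MulAction.orbit E o'.out from
          ⟨σ⁻¹ * σ', by show (σ⁻¹ * σ') • o'.out = o.out; rw [mul_smul, ← h', inv_smul_smul]⟩)
        rwa [Quotient.out_eq, Quotient.out_eq] at h1
      subst ho
      have := hfree (σ'⁻¹ * σ) o.out (by rw [mul_smul, h', inv_smul_smul])
      rw [inv_mul_eq_one] at this
      rw [this]
    · intro χ
      obtain ⟨σ, hσ⟩ : (Quotient.mk (MulAction.orbitRel E Ω) χ).out ∈ MulAction.orbit E χ :=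
        Quotient.mk_out (s := MulAction.orbitRel E Ω) χ
      exact ⟨(σ⁻¹, ⟦χ⟧), by show σ⁻¹ • (⟦χ⟧ : Quotient (MulAction.orbitRel E Ω)).out = χ; rw [← hσ]; exact inv_smul_smul σ χ⟩
  -- the projections
  let lam : (A →* Kˣ) → M → K := fun χ m => ((χ (QuotientGroup.mk m) : Kˣ) : K)
  have lam_mul : ∀ χ m m', lam χ (m * m') = lam χ m * lam χ m' := fun χ m m' => by simp [lam]
  have lam_inv : ∀ χ m, lam χ m⁻¹ * lam χ m = 1 := fun χ m => by simp [lam]
  have lam_one : ∀ m, lam 1 m = 1 := fun m => by simp [lam]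
  set P : (A →* Kˣ) → Module.End K V := fun χ => (Nat.card M : K)⁻¹ • ∑ m, lam χ m⁻¹ • α m with hP
  have hαP : ∀ χ m, α m * P χ = lam χ m • P χ := fun χ m => by
    simp only [hP, mul_smul_comm, Finset.mul_sum, smul_comm (lam χ m)]
    congr 1
    rw [Finset.smul_sum]
    refine Fintype.sum_equiv (Equiv.mulLeft m) _ _ fun x => ?_
    rw [Equiv.coe_mulLeft, smul_smul, ← map_mul, mul_inv_rev, lam_mul]
    congr 1
    rw [mul_left_comm, mul_comm (lam χ m), lam_inv, mul_one]
  have horth : ∀ χ ψ, P χ * P ψ = if χ = ψ then P χ else 0 := fun χ ψ => by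
    have h1 : P χ * P ψ = ((Nat.card M : K)⁻¹ * ∑ m, lam χ m⁻¹ * lam ψ m) • P ψ := by
      conv_lhs => arg 1; simp only [hP]
      rw [smul_mul_assoc, Finset.sum_mul, mul_smul, Finset.sum_smul]
      congr 1
      refine Finset.sum_congr rfl fun m _ => ?_
      rw [smul_mul_assoc, hαP, smul_smul]
    rw [h1]
    split
    · next h => subst h; rw [Finset.sum_congr rfl fun m _ => lam_inv χ m, Finset.sum_const, Finset.card_univ,
        nsmul_eq_mul, mul_one, ← Nat.card_eq_fintype_card, inv_mul_cancel₀ hM, one_smul]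
    · next h =>
      let f : M →* K :=
        { toFun := fun m => lam χ m⁻¹ * lam ψ m
          map_one' := by simp [lam]
          map_mul' := fun a b => by rw [mul_inv_rev, lam_mul, lam_mul]; ring }
      have hf : f ≠ 1 := fun e => h (MonoidHom.ext fun a => by
        induction a using QuotientGroup.induction_on with
        | _ x =>
          have h2 : lam χ x⁻¹ * lam ψ x = 1 := DFunLike.congr_fun e x
          refine Units.ext (show lam χ x = lam ψ x from ?_)
          calc lam χ x = lam χ x * (lam χ x⁻¹ * lam ψ x) := by rw [h2, mul_one]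
            _ = lam χ x⁻¹ * lam χ x * lam ψ x := by ring
            _ = lam ψ x := by rw [lam_inv, one_mul])
      rw [show ∑ m, lam χ m⁻¹ * lam ψ m = 0 from sum_hom_units_eq_zero f hf, mul_zero, zero_smul]
  have hcomplete : ∑ χ, P χ = 1 := by
    have hs : ∀ m, ∑ χ : A →* Kˣ, lam χ m⁻¹ = if m ∈ N then (Nat.card A : K) else 0 := fun m => by
      split
      · next h =>
        have h0 : (QuotientGroup.mk m⁻¹ : A) = 1 := (QuotientGroup.eq_one_iff _).mpr (N.inv_mem h)
        simp [lam, h0, hcardΛ]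
      · next h =>
        obtain ⟨μ, hμ⟩ := CommGroup.exists_apply_ne_one_of_hasEnoughRootsOfUnity A K
          (a := (QuotientGroup.mk m⁻¹ : A)) (fun e => h (by simpa using N.inv_mem ((QuotientGroup.eq_one_iff _).mp e)))
        have e : ∑ χ : A →* Kˣ, lam χ m⁻¹ = lam μ m⁻¹ * ∑ χ : A →* Kˣ, lam χ m⁻¹ := by
          rw [Finset.mul_sum]
          exact (Fintype.sum_equiv (Equiv.mulLeft μ) _ _ fun χ => by simp [lam]).symm
        by_contra hne
        exact hμ (Units.ext (mul_right_cancel₀ hne (e.symm.trans (one_mul _).symm)))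
    rw [hP, ← Finset.smul_sum, Finset.sum_comm]
    simp only [← Finset.sum_smul, hs, ite_smul, zero_smul]
    rw [← Finset.sum_filter, Finset.sum_congr rfl fun m hm => by rw [show α m = 1 from (Finset.mem_filter.mp hm).2],
      Finset.sum_const, ← Nat.cast_smul_eq_nsmul K, smul_smul, smul_smul]
    have : ((Finset.univ.filter fun m => m ∈ N).card : K) * Nat.card A = Nat.card M := by
      rw [← Nat.cast_mul, ← Subgroup.card_mul_index N]
      congr 2
      rw [Nat.card_eq_fintype_card]; exact (Fintype.card_subtype _).symm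
    rw [mul_assoc, this, inv_mul_cancel₀ hM, one_smul]
  have hβP : ∀ σ χ, β σ * P χ = P (χ.comp (φ σ⁻¹)) * β σ := fun σ χ => by
    simp only [hP, mul_smul_comm, smul_mul_assoc, Finset.mul_sum, Finset.sum_mul]
    congr 1
    refine Fintype.sum_equiv (τ σ).toEquiv _ _ fun m => ?_
    rw [hcov]
    congr 1
    show lam χ m⁻¹ = ((χ (φ σ⁻¹ (QuotientGroup.mk (τ σ m)⁻¹)) : Kˣ) : K)
    rw [← map_inv (τ σ) m, ← hφ, ← hφmul, inv_mul_cancel, hφone]
  set Q0 : Module.End K V := ∑ o : O, P (o.out : Ω).1 with hQ0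
  set R : E → Module.End K V := fun σ => β σ * Q0 * β σ⁻¹ with hR
  have hR' : ∀ σ, R σ = ∑ o : O, P (par (σ, o)).1 := fun σ => by
    simp only [hR, hQ0, Finset.mul_sum, Finset.sum_mul]
    refine Finset.sum_congr rfl fun o _ => ?_
    rw [hβP, mul_assoc, ← map_mul, mul_inv_cancel, map_one, mul_one]
    rfl
  have hRR : ∀ σ σ', R σ * R σ' = if σ = σ' then R σ else 0 := fun σ σ' => by
    rw [hR', hR', Finset.sum_mul]
    simp only [Finset.mul_sum, horth, ← Subtype.ext_iff, hpar.1.eq_iff, Prod.mk.injEq]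
    split
    · next h =>
      subst h
      refine Finset.sum_congr rfl fun x _ => ?_
      rw [Finset.sum_eq_single x (fun y _ hy => by simp [Ne.symm hy]) (fun hh => absurd (Finset.mem_univ x) hh)]
      simp
    · next h => simp [h]
  have hP1R : ∀ σ, P 1 * R σ = 0 := fun σ => by
    rw [hR', Finset.mul_sum]
    exact Finset.sum_eq_zero fun o _ => by rw [horth, if_neg (Ne.symm (par (σ, o)).2)]
  have hRP1 : ∀ σ, R σ * P 1 = 0 := fun σ => by
    rw [hR', Finset.sum_mul]
    exact Finset.sum_eq_zero fun o _ => by rw [horth, if_neg (par (σ, o)).2]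
  have hsumR : P 1 + ∑ σ, R σ = 1 := by
    rw [← hcomplete, ← Finset.add_sum_erase _ _ (Finset.mem_univ (1 : A →* Kˣ)), Finset.sum_congr rfl fun σ _ => hR' σ,
      ← Fintype.sum_prod_type (fun q => P (par q).1),
      Finset.sum_subtype (Finset.univ.erase (1 : A →* Kˣ)) (p := fun χ => χ ≠ 1) (by simp) P]
    exact congrArg (P 1 + ·) (Fintype.sum_bijective par hpar _ _ fun q => rfl)
  have hR1 : R 1 = Q0 := by simp [hR]
  have ap : ∀ (f g : Module.End K V) (x : V), f (g x) = (f * g) x := fun f g x => rfl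
  have hQR : ∀ σ, Q0 * β σ⁻¹ = β σ⁻¹ * R σ := fun σ => by
    simp only [hR]; rw [← mul_assoc, ← mul_assoc, hβ, one_mul]
  have hP1fix : ∀ v, P 1 v ∈ fixedSub α := fun v => mem_fixedSub.mpr fun m => by rw [ap, hαP, lam_one, one_smul]
  have hfixP1 : ∀ v ∈ fixedSub α, P 1 v = v := fun v hv => by
    simp only [hP, lam_one, one_smul, LinearMap.smul_apply, LinearMap.sum_apply, mem_fixedSub.mp hv, Finset.sum_const,
      Finset.card_univ, ← Nat.cast_smul_eq_nsmul K, smul_smul, ← Nat.card_eq_fintype_card, inv_mul_cancel₀ hM]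
  have hQfix : ∀ v ∈ fixedSub α, ∀ σ, R σ v = 0 := fun v hv σ => by
    rw [← hfixP1 v hv, ap, hRP1]; rfl
  have hP1β : ∀ σ, β σ * P 1 = P 1 * β σ := fun σ => by rw [hβP, MonoidHom.one_comp]
  have hsplit : ∀ v : V, P 1 v + ∑ σ, R σ v = v := fun v => by
    have := LinearMap.congr_fun hsumR v
    simpa [LinearMap.sum_apply] using this
  have hQidem : ∀ x ∈ LinearMap.range Q0, Q0 x = x := fun x hx => by
    obtain ⟨y, rfl⟩ := hx
    rw [ap, ← hR1, hRR, if_pos rfl]
  have hP1Q : ∀ σ, ∀ x ∈ LinearMap.range Q0, P 1 (β σ x) = 0 := fun σ x hx => by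
    obtain ⟨y, rfl⟩ := hx
    rw [ap, ← hP1β, ap, mul_assoc, ← hR1, hP1R, mul_zero]; rfl
  have hQQ : ∀ σ σ', ∀ x ∈ LinearMap.range Q0, Q0 (β σ⁻¹ (β σ' x)) = if σ = σ' then x else 0 := fun σ σ' x hx => by
    split
    · next h => subst h; rw [ap (β σ⁻¹), hβ]; exact hQidem x hx
    · next h =>
      obtain ⟨y, rfl⟩ := hx
      have : Q0 * β σ⁻¹ * (β σ' * Q0) = 0 := by
        have e : β σ' * Q0 = R σ' * β σ' := by simp only [hR]; rw [mul_assoc, hβ, mul_one]
        rw [hQR, e, mul_assoc, ← mul_assoc (R σ), hRR, if_neg h, zero_mul, mul_zero]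
      exact LinearMap.congr_fun this y
  -- the two decompositions
  let e1 : V ≃ₗ[K] fixedSub α × (E → LinearMap.range Q0) :=
    { toFun := fun v => (⟨P 1 v, hP1fix v⟩, fun σ => ⟨Q0 (β σ⁻¹ v), LinearMap.mem_range_self _ _⟩)
      map_add' := fun x y => by ext <;> simp
      map_smul' := fun c x => by ext <;> simp
      invFun := fun q => (q.1 : V) + ∑ σ, β σ (q.2 σ : V)
      left_inv := fun v => by
        conv_rhs => rw [← hsplit v]
        rfl
      right_inv := fun q => by
        refine Prod.ext (Subtype.ext ?_) (funext fun σ => Subtype.ext ?_)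
        · show P 1 ((q.1 : V) + ∑ σ, β σ (q.2 σ : V)) = q.1
          rw [map_add, hfixP1 _ q.1.2, map_sum, Finset.sum_eq_zero fun σ _ => hP1Q σ _ (q.2 σ).2, add_zero]
        · show Q0 (β σ⁻¹ ((q.1 : V) + ∑ σ', β σ' (q.2 σ' : V))) = q.2 σ
          rw [map_add, map_add, ap, hQR, ← ap, hQfix _ q.1.2, map_zero, zero_add, map_sum, map_sum,
            Finset.sum_eq_single σ (fun σ' _ hne => by rw [hQQ σ σ' _ (q.2 σ').2, if_neg (Ne.symm hne)])
            (fun h => absurd (Finset.mem_univ σ) h), hQQ σ σ _ (q.2 σ).2, if_pos rfl] }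
  let e2 : fixedSub β ≃ₗ[K] ↥(fixedSub α ⊓ fixedSub β) × LinearMap.range Q0 :=
    { toFun := fun v => (⟨P 1 v, hP1fix v, mem_fixedSub.mpr fun σ => by rw [ap, hP1β, ← ap, mem_fixedSub.mp v.2 σ]⟩,
        ⟨Q0 v, LinearMap.mem_range_self _ _⟩)
      map_add' := fun x y => by ext <;> simp
      map_smul' := fun c x => by ext <;> simp
      invFun := fun q => ⟨(q.1 : V) + ∑ σ, β σ (q.2 : V), mem_fixedSub.mpr fun ρ => by
        rw [map_add, mem_fixedSub.mp (Submodule.mem_inf.mp q.1.2).2 ρ, map_sum]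
        congr 1
        refine Fintype.sum_equiv (Equiv.mulLeft ρ) _ _ fun σ => ?_
        rw [Equiv.coe_mulLeft, map_mul]; rfl⟩
      left_inv := fun v => Subtype.ext (by
        show P 1 (v : V) + ∑ σ, β σ (Q0 (v : V)) = v
        conv_rhs => rw [← hsplit (v : V)]
        congr 1
        refine Finset.sum_congr rfl fun σ _ => ?_
        show _ = β σ (Q0 (β σ⁻¹ (v : V)))
        rw [mem_fixedSub.mp v.2 σ⁻¹])
      right_inv := fun q => by
        refine Prod.ext (Subtype.ext ?_) (Subtype.ext ?_)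
        · show P 1 ((q.1 : V) + ∑ σ, β σ (q.2 : V)) = q.1
          rw [map_add, hfixP1 _ (Submodule.mem_inf.mp q.1.2).1, map_sum, Finset.sum_eq_zero fun σ _ => hP1Q σ _ q.2.2, add_zero]
        · show Q0 ((q.1 : V) + ∑ σ, β σ (q.2 : V)) = q.2
          have h0 : Q0 (q.1 : V) = 0 :=
            (LinearMap.congr_fun hR1.symm (q.1 : V)).trans (hQfix _ (Submodule.mem_inf.mp q.1.2).1 1)
          rw [map_add, h0, zero_add, map_sum,
            Finset.sum_eq_single (1 : E) (fun σ' _ hne => by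
              have := hQQ 1 σ' _ q.2.2
              rw [if_neg (Ne.symm hne), inv_one, map_one] at this
              exact this) (fun h => absurd (Finset.mem_univ _) h), map_one]
          exact hQidem _ q.2.2 }
  rw [e1.finrank_eq, e2.finrank_eq, Module.finrank_prod, Module.finrank_prod, Module.finrank_pi_fintype,
    Finset.sum_const, Finset.card_univ, ← Nat.card_eq_fintype_card, smul_eq_mul]
  ring

end CfsgLib.FrobAction
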