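/-
The dimension formula for a module of a Frobenius group.
-/
import Cfsg.Agent.Lib.FrobAction.Module

set_option autoImplicit false

namespace CfsgLib.FrobAction

open scoped TensorProduct

universe u v w z

theorem finrank_ker_baseChange {k K : Type*} [Field k] [Field K] [Algebra k K] {V W : Type*} [AddCommGroup V] [Module k V]
    [FiniteDimensional k V] [AddCommGroup W] [Module k W] (g : V →ₗ[k] W) :
    Module.finrank K (LinearMap.ker (g.baseChange K)) = Module.finrank k (LinearMap.ker g) := by
  have hr : Module.finrank K (LinearMap.range (g.baseChange K)) = Module.finrank k (LinearMap.range g) := by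
    have h1 : g.baseChange K = ((LinearMap.range g).subtype.baseChange K).comp (g.rangeRestrict.baseChange K) := by
      rw [← LinearMap.baseChange_comp]; rfl
    have h2 : Function.Surjective (g.rangeRestrict.baseChange K) := by
      show Function.Surjective (LinearMap.lTensor K g.rangeRestrict)
      exact LinearMap.lTensor_surjective _ g.surjective_rangeRestrict
    have h3 : Function.Injective ((LinearMap.range g).subtype.baseChange K) := by
      show Function.Injective (LinearMap.lTensor K (LinearMap.range g).subtype)
      exact Module.Flat.lTensor_preserves_injective_linearMap _ (Submodule.subtype_injective _)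
    rw [h1, LinearMap.range_comp, LinearMap.range_eq_top.mpr h2, Submodule.map_top, LinearMap.finrank_range_of_inj h3,
      Module.finrank_baseChange]
  have h1 := LinearMap.finrank_range_add_finrank_ker g
  have h2 := LinearMap.finrank_range_add_finrank_ker (g.baseChange K)
  rw [Module.finrank_baseChange] at h2
  omega

variable {k : Type u} [Field k] {V : Type v} [AddCommGroup V] [Module k V] [FiniteDimensional k V]

theorem finrank_fixedSub_baseChange (K : Type*) [Field K] [Algebra k K] {ι : Type*} [Finite ι] (f : ι → Module.End k V) :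
    Module.finrank K (fixedSub fun i => LinearMap.baseChange K (f i)) = Module.finrank k (fixedSub f) := by
  classical
  have : Fintype ι := Fintype.ofFinite ι
  set g : V →ₗ[k] (ι → V) := LinearMap.pi fun i => f i - 1 with hg
  have h1 : fixedSub f = LinearMap.ker g := by rw [hg, LinearMap.ker_pi]; rfl
  have h2 : fixedSub (fun i => LinearMap.baseChange K (f i)) = LinearMap.ker (g.baseChange K) := by
    have e : (LinearMap.pi fun i => LinearMap.baseChange K (f i) - 1 : K ⊗[k] V →ₗ[K] (ι → K ⊗[k] V)) =
        (TensorProduct.piRight k K K (fun _ : ι => V)).toLinearMap.comp (g.baseChange K) := by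
      ext v i
      simp [hg, TensorProduct.tmul_sub]
    rw [show fixedSub (fun i => LinearMap.baseChange K (f i)) =
      LinearMap.ker (LinearMap.pi fun i => LinearMap.baseChange K (f i) - 1 : K ⊗[k] V →ₗ[K] (ι → K ⊗[k] V)) by
        rw [LinearMap.ker_pi]; rfl, e, LinearEquiv.ker_comp]
  rw [h1, h2, finrank_ker_baseChange]

theorem fixed_dim_step {M : Type w} [Group M] [Finite M] {E : Type z} [Group E] [Finite E] (τ : E →* MulAut M)
    (hfpf : ∀ σ : E, σ ≠ 1 → ∀ m, τ σ m = m → m = 1) (hM : (Nat.card M : k) ≠ 0) (α : M →* Module.End k V)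
    (hcomm : ∀ m m', α m * α m' = α m' * α m) (β : E →* Module.End k V) (hcov : ∀ σ m, β σ * α m = α (τ σ m) * β σ) :
    Nat.card E * Module.finrank k ↥(fixedSub α ⊓ fixedSub β) + Module.finrank k V =
      Nat.card E * Module.finrank k ↥(fixedSub β) + Module.finrank k ↥(fixedSub α) := by
  let K := AlgebraicClosure k
  let b := (Module.End.baseChangeHom k K V).toMonoidHom
  have hMK : (Nat.card M : K) ≠ 0 := by
    rw [← map_natCast (algebraMap k K)]; exact (map_ne_zero _).mpr hM
  have h := fixed_dim_step_closed τ hfpf hMK (b.comp α) (fun m m' => by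
    rw [MonoidHom.comp_apply, MonoidHom.comp_apply, ← map_mul b, ← map_mul b, hcomm]) (b.comp β) (fun σ m => by
    rw [MonoidHom.comp_apply, MonoidHom.comp_apply, MonoidHom.comp_apply, ← map_mul b, ← map_mul b, hcov])
  have ea := finrank_fixedSub_baseChange K (α : M → Module.End k V)
  have eb := finrank_fixedSub_baseChange K (β : E → Module.End k V)
  have eab := finrank_fixedSub_baseChange K (Sum.elim (α : M → Module.End k V) (β : E → Module.End k V))
  have e1 : fixedSub (Sum.elim (α : M → Module.End k V) (β : E → Module.End k V)) = fixedSub α ⊓ fixedSub β := by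
    simp [fixedSub, iInf_sum]
  have e2 : fixedSub (fun i => LinearMap.baseChange K (Sum.elim (α : M → Module.End k V) (β : E → Module.End k V) i)) =
      fixedSub (b.comp α) ⊓ fixedSub (b.comp β) := by
    simp [fixedSub, iInf_sum]; rfl
  rw [e1, e2] at eab
  rw [← eab, ← ea, ← eb, ← Module.finrank_baseChange (R := K) (S := k) (M' := V)]
  exact h

theorem finrank_map_subtype (W : Submodule k V) (p : Submodule k W) :
    Module.finrank k (p.map W.subtype) = Module.finrank k p :=
  (Submodule.equivMapOfInjective _ (Submodule.subtype_injective W) p).finrank_eq.symm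

/-- The dimension formula: `e·dim C(UE) + dim V = e·dim C(E) + dim C(U)`. -/
theorem fixed_dim {U : Type w} [Group U] [Finite U] [Group.IsNilpotent U] {E : Type z} [Group E] [Finite E]
    (τ : E →* MulAut U) (hfpf : ∀ σ : E, σ ≠ 1 → ∀ u, τ σ u = u → u = 1) (hU : (Nat.card U : k) ≠ 0)
    (α : U →* Module.End k V) (β : E →* Module.End k V) (hcov : ∀ σ u, β σ * α u = α (τ σ u) * β σ) :
    Nat.card E * Module.finrank k ↥(fixedSub α ⊓ fixedSub β) + Module.finrank k V =
      Nat.card E * Module.finrank k ↥(fixedSub β) + Module.finrank k ↥(fixedSub α) := by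
  classical
  let C : Subgroup U → Submodule k V := fun Z => fixedSub fun z : Z => α z
  suffices hmain : ∀ i, Nat.card E * Module.finrank k ↥(C (Subgroup.upperCentralSeries U i) ⊓ fixedSub β) + Module.finrank k V =
      Nat.card E * Module.finrank k ↥(fixedSub β) + Module.finrank k ↥(C (Subgroup.upperCentralSeries U i)) by
    obtain ⟨n, hn⟩ := Group.IsNilpotent.nilpotent (G := U)
    have htop : C (Subgroup.upperCentralSeries U n) = fixedSub α := by
      ext v
      simp only [C, mem_fixedSub, hn]
      exact ⟨fun h u => h ⟨u, Subgroup.mem_top u⟩, fun h u => h u⟩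
    have := hmain n
    rwa [htop] at this
  intro i
  induction i with
  | zero =>
    have h0 : C (Subgroup.upperCentralSeries U 0) = ⊤ := by
      refine eq_top_iff.mpr fun v _ => mem_fixedSub.mpr fun z => ?_
      have hz : (z : U) = 1 := Subgroup.mem_bot.mp z.2
      show α (z : U) v = v
      rw [hz, map_one]; rfl
    rw [h0, top_inf_eq, finrank_top]
  | succ i ih =>
    set Z := Subgroup.upperCentralSeries U i with hZ
    set Z' := Subgroup.upperCentralSeries U (i + 1) with hZ'
    set W := C Z with hW
    have hle : Z ≤ Z' := Subgroup.upperCentralSeries_mono U (Nat.le_succ i)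
    have hle' : C Z' ≤ W := fun v hv => mem_fixedSub.mpr fun z => mem_fixedSub.mp hv ⟨z, hle z.2⟩
    have hinvα : ∀ u, ∀ v ∈ W, α u v ∈ W := fun u v hv => mem_fixedSub.mpr fun z => by
      have hn : Z.Normal := inferInstance
      have h := mem_fixedSub.mp hv ⟨u⁻¹ * z * u, by simpa using hn.conj_mem _ z.2 u⁻¹⟩
      show (α z * α u) v = α u v
      rw [← map_mul, show (z : U) * u = u * (u⁻¹ * z * u) by group, map_mul, Module.End.mul_apply]
      exact congrArg (α u) h
    have hinvβ : ∀ σ, ∀ v ∈ W, β σ v ∈ W := fun σ v hv => mem_fixedSub.mpr fun z => by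
      have hc : Z.Characteristic := inferInstance
      have hz : (τ σ).symm z ∈ Z := by
        have h2 : (z : U) ∈ Z.comap (τ σ).symm.toMonoidHom := by rw [hc.fixed]; exact z.2
        exact h2
      have h := mem_fixedSub.mp hv ⟨_, hz⟩
      show (α z * β σ) v = β σ v
      rw [show (z : U) = τ σ ((τ σ).symm z) from ((τ σ).apply_symm_apply _).symm, ← hcov, Module.End.mul_apply]
      exact congrArg (β σ) h
    let αW : Z' →* Module.End k W :=
      { toFun := fun u => (α u).restrict (hinvα u)
        map_one' := by ext; simp
        map_mul' := fun a b => by ext; simp }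
    let βW : E →* Module.End k W :=
      { toFun := fun σ => (β σ).restrict (hinvβ σ)
        map_one' := by ext; simp
        map_mul' := fun a b => by ext; simp }
    have hc' : Z'.Characteristic := inferInstance
    have hmem' : ∀ σ, ∀ u ∈ Z', τ σ u ∈ Z' := fun σ u hu => by
      have := hc'.fixed (τ σ)
      rw [← this] at hu
      exact hu
    let τ' : E →* MulAut Z' :=
      { toFun := fun σ =>
          { toFun := fun u => ⟨τ σ u, hmem' σ u u.2⟩
            invFun := fun u => ⟨τ σ⁻¹ u, hmem' σ⁻¹ u u.2⟩
            left_inv := fun u => by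
              ext; show τ σ⁻¹ (τ σ (u : U)) = u
              rw [← MulAut.mul_apply, ← map_mul, inv_mul_cancel, map_one]; rfl
            right_inv := fun u => by
              ext; show τ σ (τ σ⁻¹ (u : U)) = u
              rw [← MulAut.mul_apply, ← map_mul, mul_inv_cancel, map_one]; rfl
            map_mul' := fun a b => by ext; simp }
        map_one' := by ext u; simp
        map_mul' := fun a b => by ext u; simp }
    have hcomm : ∀ a b : Z', αW a * αW b = αW b * αW a := fun a b => by
      ext v
      show α a (α b (v : V)) = α b (α a (v : V))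
      have hm : ((b : U) * a)⁻¹ * (a * b) ∈ Z := by
        have h := (Subgroup.mem_upperCentralSeries_succ_iff).mp (Z'.inv_mem b.2) (a : U)
        simp only [commutatorElement_def, inv_inv] at h
        have h2 := (inferInstance : Z.Normal).conj_mem _ h (a : U)⁻¹
        rw [show ((b : U) * a)⁻¹ * (a * b) = (a : U)⁻¹ * ((b : U)⁻¹ * (a : U) * b * (a : U)⁻¹) * ((a : U)⁻¹)⁻¹ by group]
        convert h2 using 2
      show (α a * α b) (v : V) = (α b * α a) (v : V)
      rw [← map_mul, ← map_mul, show (a : U) * b = ((b : U) * a) * (((b : U) * a)⁻¹ * (a * b)) by group, map_mul,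
        Module.End.mul_apply]
      exact congrArg (α ((b : U) * a)) (mem_fixedSub.mp v.2 ⟨_, hm⟩)
    have hMk : (Nat.card Z' : k) ≠ 0 := fun h => hU (by
      rw [← Subgroup.card_mul_index Z', Nat.cast_mul, h, zero_mul])
    have key := fixed_dim_step τ' (fun σ hσ u hu => Subtype.ext (hfpf σ hσ u (congrArg Subtype.val hu))) hMk αW hcomm βW
      (fun σ u => by
        ext v
        show (β σ * α u) (v : V) = (α (τ σ u) * β σ) (v : V)
        rw [hcov])
    have e1 : (fixedSub αW).map W.subtype = C Z' := by
      ext v; simp only [Submodule.mem_map, mem_fixedSub, C]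
      constructor
      · rintro ⟨w, hw, rfl⟩ z; exact congrArg Subtype.val (hw z)
      · intro h; exact ⟨⟨v, hle' (mem_fixedSub.mpr h)⟩, fun z => Subtype.ext (h z), rfl⟩
    have e2 : (fixedSub βW).map W.subtype = W ⊓ fixedSub β := by
      ext v; simp only [Submodule.mem_map, mem_fixedSub, Submodule.mem_inf]
      constructor
      · rintro ⟨w, hw, rfl⟩; exact ⟨w.2, fun z => congrArg Subtype.val (hw z)⟩
      · rintro ⟨hv, h⟩; exact ⟨⟨v, hv⟩, fun z => Subtype.ext (h z), rfl⟩
    have e3 : (fixedSub αW ⊓ fixedSub βW).map W.subtype = C Z' ⊓ fixedSub β := by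
      rw [Submodule.map_inf _ (Submodule.subtype_injective W), e1, e2, ← inf_assoc, inf_eq_left.mpr hle']
    rw [← finrank_map_subtype W (fixedSub αW ⊓ fixedSub βW), e3, ← finrank_map_subtype W (fixedSub αW), e1,
      ← finrank_map_subtype W (fixedSub βW), e2] at key
    omega

end CfsgLib.FrobAction
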