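/-
The fixed point order formula for a Frobenius group of operators on a solvable group.
-/
import Cfsg.Agent.Lib.FrobAction.Dim
import Cfsg.Agent.Lib.Coprime
import Cfsg.Agent.Lib.Frobenius.Kernel

set_option autoImplicit false

namespace CfsgLib.FrobAction

universe u

/-- The order formula for an action on an elementary abelian group. -/
theorem abelian_order_formula (p : ℕ) [Fact p.Prime] {V : Type u} [CommGroup V] [Finite V] (hVp : ∀ v : V, v ^ p = 1)
    {U E : Type u} [Group U] [Finite U] [Group.IsNilpotent U] [Group E] [Finite E] (τ : E →* MulAut U)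
    (hfpf : ∀ σ : E, σ ≠ 1 → ∀ u, τ σ u = u → u = 1) (hU : ¬ p ∣ Nat.card U) (fU : U →* Monoid.End V)
    (fE : E →* Monoid.End V) (hcov : ∀ σ u, fE σ * fU u = fU (τ σ u) * fE σ) :
    Nat.card {v : V // (∀ u, fU u v = v) ∧ ∀ σ, fE σ v = v} ^ Nat.card E * Nat.card V =
      Nat.card {v : V // ∀ σ, fE σ v = v} ^ Nat.card E * Nat.card {v : V // ∀ u, fU u v = v} := by
  have hVp' : ∀ a : Additive V, p • a = 0 := fun a => hVp a.toMul
  letI : Module (ZMod p) (Additive V) := AddCommGroup.zmodModule (n := p) (G := Additive V) hVp'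
  have : Module.Finite (ZMod p) (Additive V) := Module.Finite.of_finite
  let L : Monoid.End V → (Additive V →ₗ[ZMod p] Additive V) := fun g => AddMonoidHom.toZModLinearMap p (MonoidHom.toAdditive g)
  have hL : ∀ g v, L g (Additive.ofMul v) = Additive.ofMul (g v) := fun g v => rfl
  let Lh : Monoid.End V →* Module.End (ZMod p) (Additive V) :=
    { toFun := L, map_one' := by ext a; rfl, map_mul' := fun g h => by ext a; rfl }
  have h := fixed_dim τ hfpf (by rwa [Ne, ZMod.natCast_eq_zero_iff]) (Lh.comp fU) (Lh.comp fE) (fun σ u => by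
    rw [MonoidHom.comp_apply, MonoidHom.comp_apply, MonoidHom.comp_apply, ← map_mul Lh, ← map_mul Lh, hcov])
  have hc : ∀ W : Submodule (ZMod p) (Additive V), Nat.card W = p ^ Module.finrank (ZMod p) W := fun W => by
    rw [Module.natCard_eq_pow_finrank (K := ZMod p), Nat.card_zmod]
  have e1 : Nat.card {v : V // ∀ u, fU u v = v} = Nat.card (fixedSub (Lh.comp fU)) :=
    Nat.card_congr (Equiv.subtypeEquiv Additive.ofMul fun v => by rw [mem_fixedSub]; rfl)
  have e2 : Nat.card {v : V // ∀ σ, fE σ v = v} = Nat.card (fixedSub (Lh.comp fE)) :=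
    Nat.card_congr (Equiv.subtypeEquiv Additive.ofMul fun v => by rw [mem_fixedSub]; rfl)
  have e3 : Nat.card {v : V // (∀ u, fU u v = v) ∧ ∀ σ, fE σ v = v} = Nat.card ↥(fixedSub (Lh.comp fU) ⊓ fixedSub (Lh.comp fE)) :=
    Nat.card_congr (Equiv.subtypeEquiv Additive.ofMul fun v => by rw [Submodule.mem_inf, mem_fixedSub, mem_fixedSub]; rfl)
  have e4 : Nat.card V = p ^ Module.finrank (ZMod p) (Additive V) := by
    rw [show Nat.card V = Nat.card (Additive V) from rfl, Module.natCard_eq_pow_finrank (K := ZMod p), Nat.card_zmod]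
  rw [e1, e2, e3, e4, hc, hc, hc, ← pow_mul, ← pow_mul, ← pow_add, ← pow_add, mul_comm _ (Nat.card E),
    mul_comm _ (Nat.card E), h]

variable {G : Type u} [Group G] [Finite G]

open scoped commutatorElement in
theorem order_formula_step (U E K : Subgroup G) [Group.IsNilpotent U] (hEU : E ≤ Subgroup.normalizer (U : Set G))
    (hfpf : ∀ e ∈ E, e ≠ 1 → ∀ u ∈ U, e * u = u * e → u = 1) (hX : U ⊔ E ≤ Subgroup.normalizer (K : Set G))
    (hcop : (Nat.card ↥(U ⊔ E)).Coprime (Nat.card K)) (hK : Group.IsSolvable K) (hK1 : K ≠ ⊥) :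
    ∃ N : Subgroup G, N < K ∧ U ⊔ E ≤ Subgroup.normalizer (N : Set G) ∧
      ∃ a b c d : ℕ, Nat.card ↥(K ⊓ Subgroup.centralizer ((U ⊔ E : Subgroup G) : Set G)) =
          Nat.card ↥(N ⊓ Subgroup.centralizer ((U ⊔ E : Subgroup G) : Set G)) * a ∧
        Nat.card K = Nat.card N * b ∧
        Nat.card ↥(K ⊓ Subgroup.centralizer (E : Set G)) = Nat.card ↥(N ⊓ Subgroup.centralizer (E : Set G)) * c ∧
        Nat.card ↥(K ⊓ Subgroup.centralizer (U : Set G)) = Nat.card ↥(N ⊓ Subgroup.centralizer (U : Set G)) * d ∧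
        a ^ Nat.card E * b = c ^ Nat.card E * d := by
  classical
  have : Nontrivial K := (Subgroup.nontrivial_iff_ne_bot K).mpr hK1
  have hab : commutator K ≠ ⊤ := fun h => (IsSolvable.commutator_lt_top_of_nontrivial K).ne h
  have : Nontrivial (Abelianization K) := QuotientGroup.nontrivial_iff.mpr hab
  obtain ⟨p, hp, hpd⟩ := Nat.exists_prime_and_dvd (n := Nat.card (Abelianization K)) Finite.one_lt_card.ne'
  have := Fact.mk hp
  set N0 : Subgroup K := (powMonoidHom p : Abelianization K →* Abelianization K).range.comap Abelianization.of with hN0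
  have hN0ne : N0 ≠ ⊤ := fun h => by
    have hsurj : Function.Surjective (powMonoidHom p : Abelianization K →* Abelianization K) := fun a => by
      obtain ⟨k, rfl⟩ := QuotientGroup.mk_surjective a
      exact (h ▸ Subgroup.mem_top k : k ∈ N0)
    obtain ⟨a, ha⟩ := exists_prime_orderOf_dvd_card' (G := Abelianization K) p hpd
    have := (Finite.injective_iff_surjective.mpr hsurj) (a₁ := a) (a₂ := 1)
      (by simp only [powMonoidHom_apply, one_pow, ← ha, pow_orderOf_eq_one])
    rw [this, orderOf_one] at ha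
    exact hp.ne_one ha.symm
  have hN0n : N0.Normal := inferInstance
  have hinv : ∀ φ : K →* K, N0 ≤ N0.comap φ := fun φ k hk => by
    obtain ⟨a, ha⟩ := hk
    refine ⟨Abelianization.map φ a, ?_⟩
    show (Abelianization.map φ a) ^ p = Abelianization.of (φ k)
    rw [← map_pow, show a ^ p = Abelianization.of k from ha, Abelianization.map_of]
  set N : Subgroup G := N0.map K.subtype with hN
  have hNK : N ≤ K := Subgroup.map_subtype_le _
  have hNlt : N < K := hNK.lt_of_ne fun h => hN0ne (by
    apply Subgroup.map_injective K.subtype_injective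
    rw [← hN, h, ← MonoidHom.range_eq_map, Subgroup.range_subtype])
  set X := U ⊔ E with hXdef
  let cj : X →* MulAut K := (Subgroup.normalizerMonoidHom K).comp (Subgroup.inclusion hX)
  have hcj : ∀ (x : X) (k : K), ((cj x k : K) : G) = (x : G) * k * (x : G)⁻¹ := fun x k => rfl
  have hXN : X ≤ Subgroup.normalizer (N : Set G) := by
    intro x hx
    rw [Subgroup.mem_normalizer_iff]
    intro n
    constructor
    · rintro ⟨k, hk, rfl⟩
      exact ⟨cj ⟨x, hx⟩ k, hinv (cj ⟨x, hx⟩).toMonoidHom hk, rfl⟩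
    · rintro ⟨k, hk, e⟩
      refine ⟨cj ⟨x⁻¹, X.inv_mem hx⟩ k, hinv (cj ⟨x⁻¹, X.inv_mem hx⟩).toMonoidHom hk, ?_⟩
      show x⁻¹ * (k : G) * x⁻¹⁻¹ = n
      rw [show (k : G) = x * n * x⁻¹ from e]; group
  -- the module
  have hVcomm : ∀ a b : (↥K ⧸ N0), a * b = b * a := fun a b => by
    induction a using QuotientGroup.induction_on with
    | _ x =>
      induction b using QuotientGroup.induction_on with
      | _ y =>
        show ((x * y : K) : (↥K ⧸ N0)) = ((y * x : K) : (↥K ⧸ N0))
        rw [QuotientGroup.eq]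
        refine ⟨1, ?_⟩
        rw [map_one, map_mul, map_inv, map_mul, map_mul, mul_comm (Abelianization.of y), inv_mul_cancel]
  letI : CommGroup (↥K ⧸ N0) := { (inferInstance : Group (↥K ⧸ N0)) with mul_comm := hVcomm }
  have hVp : ∀ a : (↥K ⧸ N0), a ^ p = 1 := fun a => by
    induction a using QuotientGroup.induction_on with
    | _ x => rw [← QuotientGroup.mk_pow, QuotientGroup.eq_one_iff]; exact ⟨Abelianization.of x, by simp⟩
  let act : X → ((↥K ⧸ N0) →* (↥K ⧸ N0)) := fun x => QuotientGroup.map N0 N0 (cj x).toMonoidHom (hinv _)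
  let f : X →* Monoid.End (↥K ⧸ N0) :=
    { toFun := act
      map_one' := by
        refine MonoidHom.ext fun v => ?_
        induction v using QuotientGroup.induction_on with
        | _ k => show ((cj 1 k : K) : (↥K ⧸ N0)) = _; rw [map_one]; rfl
      map_mul' := fun x y => by
        refine MonoidHom.ext fun v => ?_
        induction v using QuotientGroup.induction_on with
        | _ k => show ((cj (x * y) k : K) : (↥K ⧸ N0)) = _; rw [map_mul]; rfl }
  -- fixed points
  have hkey : ∀ S : Subgroup G, (hS : S ≤ X) →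
      Nat.card ↥(K ⊓ Subgroup.centralizer (S : Set G)) = Nat.card ↥(N ⊓ Subgroup.centralizer (S : Set G)) *
        Nat.card {v : (↥K ⧸ N0) // ∀ s : S, f (Subgroup.inclusion hS s) v = v} := by
    intro S hS
    set D := (Subgroup.centralizer (S : Set G)).subgroupOf K with hD
    let q : D →* (↥K ⧸ N0) := (QuotientGroup.mk' N0).comp D.subtype
    have e1 : ∀ v : (↥K ⧸ N0), v ∈ q.range ↔ ∀ s : S, f (Subgroup.inclusion hS s) v = v := by
      intro v
      induction v using QuotientGroup.induction_on with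
      | _ k =>
        constructor
        · rintro ⟨d, hd⟩
          rw [← hd]
          intro s
          show ((cj (Subgroup.inclusion hS s) (d : K) : K) : (↥K ⧸ N0)) = ((d : K) : (↥K ⧸ N0))
          congr 1
          refine Subtype.ext ?_
          rw [hcj]
          have := d.2 (s : G) s.2
          show (s : G) * ((d : K) : G) * (s : G)⁻¹ = _
          exact mul_inv_eq_iff_eq_mul.mpr this
        · intro hk'
          obtain ⟨c, hc, hkc⟩ := CfsgLib.coprime_fixed_quotient (A := S) (K := K) (N := N) (hS.trans hX)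
            (hcop.coprime_dvd_left (Subgroup.card_dvd_of_le hS)) (Or.inr hK) hNK
            (fun y hy => by
              rw [Subgroup.mem_normalizer_iff]
              intro n
              constructor
              · rintro ⟨j, hj, rfl⟩
                exact ⟨⟨y, hy⟩ * j * ⟨y, hy⟩⁻¹, hN0n.conj_mem j hj _, rfl⟩
              · rintro ⟨j, hj, e⟩
                exact ⟨⟨y, hy⟩⁻¹ * j * ⟨y, hy⟩, by simpa using hN0n.conj_mem j hj ⟨y, hy⟩⁻¹, by
                  show y⁻¹ * (j : G) * y = n
                  rw [show (j : G) = y * n * y⁻¹ from e]; group⟩)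
            (hS.trans hXN) k.2 (fun a ha => by
              have h2 : ((cj (Subgroup.inclusion hS ⟨a, ha⟩) k : K) : (↥K ⧸ N0)) = (k : (↥K ⧸ N0)) := hk' ⟨a, ha⟩
              have h3 := (QuotientGroup.eq).mp h2.symm
              refine ⟨_, hN0n.conj_mem _ h3 k, ?_⟩
              show (k : G) * ((k : G)⁻¹ * (a * k * a⁻¹)) * (k : G)⁻¹ = _
              group)
          refine ⟨⟨⟨c, hc.1⟩, hc.2⟩, ((QuotientGroup.eq).mpr ?_).symm⟩
          obtain ⟨j, hj, e⟩ := hkc
          have : k⁻¹ * (⟨c, hc.1⟩ : K) = j := Subtype.ext e.symm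
          exact Eq.mpr (congrArg (· ∈ N0) this) hj
    have e2 : Nat.card q.range = Nat.card {v : (↥K ⧸ N0) // ∀ s : S, f (Subgroup.inclusion hS s) v = v} :=
      Nat.card_congr (Equiv.subtypeEquivRight e1)
    have e3 : Nat.card q.ker = Nat.card ↥(N ⊓ Subgroup.centralizer (S : Set G)) := by
      refine Nat.card_congr ⟨fun d => ⟨((d : D) : K), ⟨⟨((d : D) : K), (QuotientGroup.eq_one_iff _).mp d.2, rfl⟩, (d : D).2⟩⟩,
        fun n => ⟨⟨⟨n, hNK n.2.1⟩, n.2.2⟩, ?_⟩, fun d => rfl, fun n => rfl⟩
      obtain ⟨j, hj, e⟩ := n.2.1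
      show ((⟨n, hNK n.2.1⟩ : K) : (↥K ⧸ N0)) = 1
      rw [QuotientGroup.eq_one_iff, show (⟨(n : G), hNK n.2.1⟩ : K) = j from Subtype.ext e.symm]
      exact hj
    have e4 : Nat.card D = Nat.card ↥(K ⊓ Subgroup.centralizer (S : Set G)) :=
      Nat.card_congr ⟨fun d => ⟨(d : K), d.1.2, d.2⟩, fun n => ⟨⟨n, n.2.1⟩, n.2.2⟩, fun d => rfl, fun n => rfl⟩
    rw [← e4, ← Subgroup.card_mul_index q.ker, Subgroup.index_ker, e2, e3]
  -- the representations
  let inU : U →* X := Subgroup.inclusion le_sup_left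
  let inE : E →* X := Subgroup.inclusion le_sup_right
  let τ : E →* MulAut U := (Subgroup.normalizerMonoidHom U).comp (Subgroup.inclusion hEU)
  have hτ : ∀ (σ : E) (u : U), ((τ σ u : U) : G) = (σ : G) * u * (σ : G)⁻¹ := fun σ u => rfl
  have hUk : ¬ p ∣ Nat.card U := by
    intro h
    have hpK : p ∣ Nat.card K := hpd.trans (Subgroup.card_quotient_dvd_card _)
    have := Nat.eq_one_of_dvd_coprimes hcop (h.trans (Subgroup.card_dvd_of_le le_sup_left)) hpK
    exact hp.ne_one this
  have hdim := abelian_order_formula p hVp τ (fun σ hσ u hu => by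
      have h1 : (σ : G) * u * (σ : G)⁻¹ = u := congrArg Subtype.val hu
      exact Subtype.ext (hfpf σ σ.2 (fun h => hσ (Subtype.ext h)) u u.2 (mul_inv_eq_iff_eq_mul.mp h1)))
    hUk (f.comp inU) (f.comp inE) (fun σ u => by
      show f (inE σ) * f (inU u) = f (inU (τ σ u)) * f (inE σ)
      rw [← map_mul, ← map_mul]
      congr 1
      refine Subtype.ext ?_
      show (σ : G) * u = ((τ σ u : U) : G) * σ
      rw [hτ]; group)
  have eX : Nat.card {v : (↥K ⧸ N0) // ∀ s : X, f (Subgroup.inclusion le_rfl s) v = v} =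
      Nat.card {v : (↥K ⧸ N0) // (∀ u, f.comp inU u v = v) ∧ ∀ σ, f.comp inE σ v = v} := by
    refine Nat.card_congr (Equiv.subtypeEquivRight fun v => ⟨fun h => ⟨fun u => h (inU u), fun e => h (inE e)⟩, fun ⟨hu, he⟩ s => ?_⟩)
    let St : Subgroup X :=
      { carrier := {x | f x v = v}
        one_mem' := by show f 1 v = v; rw [map_one]; rfl
        mul_mem' := fun {a b} ha hb => by
          show f (a * b) v = v
          rw [map_mul]
          show f a (f b v) = v
          rw [show f b v = v from hb]; exact ha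
        inv_mem' := fun {a} ha => by
          show f a⁻¹ v = v
          conv_lhs => rw [← show f a v = v from ha]
          show (f a⁻¹ * f a) v = v
          rw [← map_mul, inv_mul_cancel, map_one]; rfl }
    have htop : X ≤ St.map X.subtype := sup_le (fun u hu' => ⟨inU ⟨u, hu'⟩, hu ⟨u, hu'⟩, rfl⟩)
      (fun e he' => ⟨inE ⟨e, he'⟩, he ⟨e, he'⟩, rfl⟩)
    obtain ⟨y, hy, hys⟩ := htop s.2
    rw [← show y = s from Subtype.ext hys]
    exact hy
  refine ⟨N, hNlt, hXN, _, Nat.card (↥K ⧸ N0), _, _, hkey X le_rfl, ?_, hkey E le_sup_right, hkey U le_sup_left, ?_⟩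
  · rw [show Nat.card N = Nat.card N0 from Nat.card_congr (N0.equivMapOfInjective _ K.subtype_injective).toEquiv.symm,
      ← Subgroup.index_eq_card, Subgroup.card_mul_index]
  · rw [eX]; exact hdim

theorem order_formula (U E : Subgroup G) [Group.IsNilpotent U] (hEU : E ≤ Subgroup.normalizer (U : Set G))
    (hfpf : ∀ e ∈ E, e ≠ 1 → ∀ u ∈ U, e * u = u * e → u = 1) (K : Subgroup G)
    (hX : U ⊔ E ≤ Subgroup.normalizer (K : Set G)) (hcop : (Nat.card ↥(U ⊔ E)).Coprime (Nat.card K))
    (hK : Group.IsSolvable K) :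
    Nat.card ↥(K ⊓ Subgroup.centralizer ((U ⊔ E : Subgroup G) : Set G)) ^ Nat.card E * Nat.card K =
      Nat.card ↥(K ⊓ Subgroup.centralizer (E : Set G)) ^ Nat.card E * Nat.card ↥(K ⊓ Subgroup.centralizer (U : Set G)) := by
  induction K using WellFoundedLT.induction with
  | ind K ih =>
    by_cases hK1 : K = ⊥
    · simp [hK1]
    obtain ⟨N, hlt, hXN, a, b, c, d, ha, hb, hc, hd, he⟩ := order_formula_step U E K hEU hfpf hX hcop hK hK1
    have hs : Group.IsSolvable N :=
      Group.isSolvable_of_isSolvable_injective (f := Subgroup.inclusion hlt.le) (Subgroup.inclusion_injective _)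
    have h := ih N hlt hXN (hcop.coprime_dvd_right (Subgroup.card_dvd_of_le hlt.le)) hs
    rw [ha, hb, hc, hd, mul_pow, mul_pow, mul_mul_mul_comm, h, he, mul_mul_mul_comm]

theorem isNilpotent_of_fpf_operators (U E : Subgroup G) (hE : E ≠ ⊥) (hEU : E ≤ Subgroup.normalizer (U : Set G))
    (hfpf : ∀ e ∈ E, e ≠ 1 → ∀ u ∈ U, e * u = u * e → u = 1) : Group.IsNilpotent U := by
  by_cases hU : U = ⊥
  · subst hU; infer_instance
  obtain ⟨q, hq, hqd⟩ := Nat.exists_prime_and_dvd (n := Nat.card E) (by rw [Ne, Subgroup.card_eq_one]; exact hE)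
  have := Fact.mk hq
  obtain ⟨h, hh⟩ := exists_prime_orderOf_dvd_card' (G := E) q hqd
  let φ : MulAut U := Subgroup.normalizerMonoidHom U (Subgroup.inclusion hEU h)
  have hh1 : (h : G) ≠ 1 := fun e => hq.ne_one (by rw [← hh, ← Subgroup.orderOf_coe, e, orderOf_one])
  have hfix : MonoidHom.FixedPointFree (φ : U →* U) := fun u hu => by
    have h1 : (h : G) * u * (h : G)⁻¹ = u := congrArg Subtype.val hu
    exact Subtype.ext (hfpf h h.2 hh1 u u.2 (mul_inv_eq_iff_eq_mul.mp h1))
  refine CfsgLib.Frob.isNilpotent_of_fpf_prime φ hfix hq (orderOf_eq_prime ?_ ?_)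
  · show (Subgroup.normalizerMonoidHom U (Subgroup.inclusion hEU h)) ^ q = 1
    rw [← map_pow, ← map_pow, ← hh, pow_orderOf_eq_one, map_one, map_one]
  · intro e
    obtain ⟨k, hk, hk1⟩ := SetLike.exists_of_lt (bot_lt_iff_ne_bot.mpr hU)
    refine hk1 (Subgroup.mem_bot.mpr ?_)
    exact congrArg Subtype.val (hfix ⟨k, hk⟩ (by show φ _ = _; rw [e]; rfl))

end CfsgLib.FrobAction
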