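import Mathlib
import Cfsg.Agent.Lib.FrobAction.Dim

/-!
A group of prime order acting on a group of class two with scalar nondegenerate centre, without fixed vectors:
the degree of the representation is one less than the prime.
-/

set_option autoImplicit false
set_option linter.unusedSectionVars false

namespace CfsgLib.SymplecticCore

open scoped commutatorElement

universe u v w z

variable {K : Type u} [Field K]
variable {H : Type w} [Group H] [Finite H]

section Average

variable {W : Type v} [AddCommGroup W] [Module K W]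

/-- Sum of the conjugates of `f` by representatives of `H ⧸ Z`. -/
noncomputable def avg (Z : Subgroup H) (α : H →* Module.End K W) (f : Module.End K W) : Module.End K W :=
  letI : Fintype (H ⧸ Z) := Fintype.ofFinite _
  ∑ q : H ⧸ Z, α q.out * f * α q.out⁻¹

variable {Z : Subgroup H} {α : H →* Module.End K W}

theorem conj_eq_of_eq (hZscal : ∀ z ∈ Z, ∃ c : K, α z = c • 1) {g h : H}
    (hgh : (QuotientGroup.mk g : H ⧸ Z) = QuotientGroup.mk h) (f : Module.End K W) :
    α g * f * α g⁻¹ = α h * f * α h⁻¹ := by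
  obtain ⟨z, hz, rfl⟩ : ∃ z ∈ Z, h = g * z := ⟨g⁻¹ * h, QuotientGroup.eq.1 hgh, by group⟩
  obtain ⟨c, hc⟩ := hZscal z hz
  have h1 : α z * f * α z⁻¹ = f := by
    rw [hc, smul_mul_assoc, one_mul, ← mul_one f, ← mul_smul_comm, mul_assoc, ← hc, ← map_mul, mul_inv_cancel, map_one,
      mul_one]
  calc α g * f * α g⁻¹ = α g * (α z * f * α z⁻¹) * α g⁻¹ := by rw [h1]
    _ = α (g * z) * f * α (g * z)⁻¹ := by rw [mul_inv_rev, map_mul, map_mul]; simp only [mul_assoc]

theorem avg_mul_left [Z.Normal] (hZscal : ∀ z ∈ Z, ∃ c : K, α z = c • 1) (g : H) (f : Module.End K W) :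
    α g * avg Z α f * α g⁻¹ = avg Z α f := by
  classical
  letI : Fintype (H ⧸ Z) := Fintype.ofFinite _
  rw [avg, Finset.mul_sum, Finset.sum_mul]
  refine Fintype.sum_equiv (Equiv.mulLeft (QuotientGroup.mk g : H ⧸ Z)) _ _ fun q => ?_
  have h : (QuotientGroup.mk ((Equiv.mulLeft (QuotientGroup.mk g : H ⧸ Z)) q).out : H ⧸ Z) =
      QuotientGroup.mk (g * q.out) := by
    simp
  rw [conj_eq_of_eq hZscal h f, mul_inv_rev, map_mul, map_mul]
  simp only [mul_assoc]

theorem avg_commute [Z.Normal] (hZscal : ∀ z ∈ Z, ∃ c : K, α z = c • 1) (g : H) (f : Module.End K W) :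
    avg Z α f * α g = α g * avg Z α f := by
  conv_lhs => rw [← avg_mul_left hZscal g f]
  rw [mul_assoc, ← map_mul, inv_mul_cancel, map_one, mul_one]

theorem avg_of_mem [Z.Normal] (hZscal : ∀ z ∈ Z, ∃ c : K, α z = c • 1) {u : H} (hu : u ∈ Z) :
    avg Z α (α u) = (Z.index : K) • α u := by
  classical
  letI : Fintype (H ⧸ Z) := Fintype.ofFinite _
  obtain ⟨c, hc⟩ := hZscal u hu
  rw [avg, Finset.sum_congr rfl fun q _ => show α q.out * α u * α q.out⁻¹ = α u by
    rw [hc, mul_smul_comm, mul_one, smul_mul_assoc, ← map_mul, mul_inv_cancel, map_one]]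
  rw [Finset.sum_const, Finset.card_univ, Subgroup.index_eq_card, Nat.card_eq_fintype_card, Nat.cast_smul_eq_nsmul]

theorem avg_of_notMem [Z.Normal] (hZscal : ∀ z ∈ Z, ∃ c : K, α z = c • 1) (hcl : ∀ g h : H, ⁅g, h⁆ ∈ Z)
    (hZc : Z ≤ Subgroup.center H) (hnd : ∀ h : H, h ∉ Z → ∃ g : H, ∃ c : K, c ≠ 1 ∧ α ⁅g, h⁆ = c • 1)
    {u : H} (hu : u ∉ Z) : avg Z α (α u) = 0 := by
  classical
  letI : Fintype (H ⧸ Z) := Fintype.ofFinite _
  obtain ⟨g, c, hc1, hc⟩ := hnd u hu
  have key : avg Z α (α u) = c • avg Z α (α u) := by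
    calc avg Z α (α u) = ∑ q : H ⧸ Z, α (q * (QuotientGroup.mk g : H ⧸ Z)).out * α u *
          α (q * (QuotientGroup.mk g : H ⧸ Z)).out⁻¹ :=
          (Fintype.sum_equiv (Equiv.mulRight (QuotientGroup.mk g : H ⧸ Z)) _ _ fun q => rfl).symm
      _ = ∑ q : H ⧸ Z, c • (α q.out * α u * α q.out⁻¹) := by
          refine Finset.sum_congr rfl fun q _ => ?_
          have h : (QuotientGroup.mk (q * (QuotientGroup.mk g : H ⧸ Z)).out : H ⧸ Z) = QuotientGroup.mk (q.out * g) := by
            simp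
          rw [conj_eq_of_eq hZscal h, ← map_mul, ← map_mul, ← map_mul, ← map_mul]
          have e : q.out * g * u * (q.out * g)⁻¹ = ⁅g, u⁆ * (q.out * u * q.out⁻¹) := by
            have hcen := Subgroup.mem_center_iff.1 (hZc (hcl g u)) q.out
            calc q.out * g * u * (q.out * g)⁻¹ = q.out * ⁅g, u⁆ * u * q.out⁻¹ := by
                  rw [commutatorElement_def]; group
              _ = ⁅g, u⁆ * (q.out * u * q.out⁻¹) := by rw [hcen]; group
          rw [e, map_mul, hc, smul_mul_assoc, one_mul]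
      _ = c • avg Z α (α u) := by rw [avg, Finset.smul_sum]
  have h2 : (c - 1) • avg Z α (α u) = 0 := by rw [sub_smul, one_smul, ← key, sub_self]
  exact (smul_eq_zero.1 h2).resolve_left (sub_ne_zero.2 hc1)

end Average

section Irreducible

variable [IsAlgClosed K] {W : Type v} [AddCommGroup W] [Module K W] [FiniteDimensional K W] [Nontrivial W]
variable {E : Type z} [Group E] [Finite E]

theorem scalar_of_commute (α : H →* Module.End K W)
    (hirr : ∀ S : Submodule K W, (∀ h, ∀ v ∈ S, α h v ∈ S) → S = ⊥ ∨ S = ⊤) {f : Module.End K W}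
    (hf : ∀ h, f * α h = α h * f) : ∃ c : K, f = c • 1 := by
  obtain ⟨c, hc⟩ := Module.End.exists_eigenvalue f
  refine ⟨c, ?_⟩
  have hinv : ∀ h, ∀ v ∈ f.eigenspace c, α h v ∈ f.eigenspace c := by
    intro h v hv
    rw [Module.End.mem_eigenspace_iff] at hv ⊢
    rw [← Module.End.mul_apply, hf h, Module.End.mul_apply, hv, map_smul]
  rcases hirr _ hinv with h | h
  · exact absurd h hc
  · refine LinearMap.ext fun v => ?_
    have hv : v ∈ f.eigenspace c := h ▸ Submodule.mem_top
    rw [Module.End.mem_eigenspace_iff.1 hv, LinearMap.smul_apply, Module.End.one_apply]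

theorem degree_sq (Z : Subgroup H) [Z.Normal] (hZc : Z ≤ Subgroup.center H) (hcl : ∀ g h : H, ⁅g, h⁆ ∈ Z)
    (α : H →* Module.End K W) (hirr : ∀ S : Submodule K W, (∀ h, ∀ v ∈ S, α h v ∈ S) → S = ⊥ ∨ S = ⊤)
    (hZscal : ∀ z ∈ Z, ∃ c : K, α z = c • 1)
    (hnd : ∀ h : H, h ∉ Z → ∃ g : H, ∃ c : K, c ≠ 1 ∧ α ⁅g, h⁆ = c • 1) (hH : (Nat.card H : K) ≠ 0) :
    Module.finrank K W * Module.finrank K W = Z.index := by
  classical
  letI : Fintype (H ⧸ Z) := Fintype.ofFinite _
  have hidx : (Z.index : K) ≠ 0 := fun h => hH (by rw [← Subgroup.index_mul_card Z, Nat.cast_mul, h, zero_mul])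
  let Φ : (H ⧸ Z → K) →ₗ[K] Module.End K W :=
    { toFun := fun c => ∑ q, c q • α q.out
      map_add' := fun c d => by simp [add_smul, Finset.sum_add_distrib]
      map_smul' := fun a c => by simp [smul_smul, Finset.smul_sum] }
  have hzero : ∀ q q0 : H ⧸ Z, q ≠ q0 → q.out * q0.out⁻¹ ∉ Z := by
    intro q q0 hne hmem
    apply hne
    have h := (QuotientGroup.eq_one_iff (q.out * q0.out⁻¹)).2 hmem
    rw [QuotientGroup.mk_mul, QuotientGroup.mk_inv, QuotientGroup.out_eq', QuotientGroup.out_eq', mul_inv_eq_one] at h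
    exact h
  have hinj : Function.Injective Φ := by
    rw [← LinearMap.ker_eq_bot, Submodule.eq_bot_iff]
    intro c hc
    funext q0
    have hc' : ∑ q, c q • α q.out = 0 := hc
    have h1 : avg Z α ((∑ q, c q • α q.out) * α q0.out⁻¹) = c q0 • ((Z.index : K) • 1) := by
      rw [Finset.sum_mul]
      have hlin : avg Z α (∑ q, c q • α q.out * α q0.out⁻¹) = ∑ q, c q • avg Z α (α (q.out * q0.out⁻¹)) := by
        simp only [avg, Finset.mul_sum, Finset.sum_mul, Finset.smul_sum, smul_mul_assoc, mul_smul_comm, map_mul]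
        exact Finset.sum_comm
      rw [hlin, Finset.sum_eq_single q0 (fun q _ hq => by
        rw [avg_of_notMem hZscal hcl hZc hnd (hzero q q0 hq), smul_zero]) (fun h => absurd (Finset.mem_univ q0) h)]
      rw [mul_inv_cancel, avg_of_mem hZscal (one_mem Z), map_one]
    rw [hc', zero_mul] at h1
    have h0 : avg Z α (0 : Module.End K W) = 0 := by simp [avg]
    rw [h0, eq_comm, smul_smul] at h1
    have h2 := (smul_eq_zero.1 h1).resolve_right one_ne_zero
    exact (mul_eq_zero.1 h2).resolve_right hidx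
  have hsurj : Function.Surjective Φ := by
    intro f
    choose c hc using fun q : H ⧸ Z => scalar_of_commute α hirr
      (f := avg Z α (α q.out⁻¹ * f)) (fun h => avg_commute hZscal h _)
    refine ⟨fun q => (Z.index : K)⁻¹ * c q, ?_⟩
    show ∑ q, ((Z.index : K)⁻¹ * c q) • α q.out = f
    have h1 : ∑ q, c q • α q.out = (Z.index : K) • f := by
      have e1 : ∀ q : H ⧸ Z, c q • α q.out = α q.out * avg Z α (α q.out⁻¹ * f) := fun q => by
        rw [hc, mul_smul_comm, mul_one]
      rw [Finset.sum_congr rfl fun q _ => e1 q]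
      simp only [avg, Finset.mul_sum]
      rw [Finset.sum_comm]
      have e2 : ∀ p : H ⧸ Z, ∑ q : H ⧸ Z, α q.out * (α p.out * (α q.out⁻¹ * f) * α p.out⁻¹) =
          avg Z α (α p.out) * (f * α p.out⁻¹) := by
        intro p
        rw [avg, Finset.sum_mul]
        simp only [mul_assoc]
      rw [Finset.sum_congr rfl fun p _ => e2 p]
      rw [Finset.sum_eq_single (1 : H ⧸ Z)]
      · have hmem : (1 : H ⧸ Z).out ∈ Z := by
          rw [← QuotientGroup.eq_one_iff, QuotientGroup.out_eq']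
        obtain ⟨a, ha⟩ := hZscal _ hmem
        rw [avg_of_mem hZscal hmem, smul_mul_assoc, ha, smul_mul_assoc, one_mul, ← mul_smul_comm,
          show a • α (1 : H ⧸ Z).out⁻¹ = α (1 : H ⧸ Z).out * α (1 : H ⧸ Z).out⁻¹ by rw [ha, smul_mul_assoc, one_mul],
          ← map_mul, mul_inv_cancel, map_one, mul_one]
      · intro p _ hp
        have hmem : p.out ∉ Z := fun h => hp (by
          rw [← QuotientGroup.out_eq' p]; exact (QuotientGroup.eq_one_iff _).2 h)
        rw [avg_of_notMem hZscal hcl hZc hnd hmem, zero_mul]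
      · exact fun h => absurd (Finset.mem_univ _) h
    simp only [← smul_smul]
    rw [← Finset.smul_sum, h1, smul_smul, inv_mul_cancel₀ hidx, one_smul]
  have h := (LinearEquiv.ofBijective Φ ⟨hinj, hsurj⟩).finrank_eq
  rw [Module.finrank_pi, Module.finrank_linearMap, ← Nat.card_eq_fintype_card, ← Subgroup.index_eq_card] at h
  exact h.symm

theorem irreducible_case (r : ℕ) [Fact r.Prime] (hE : Nat.card E = r) (Z : Subgroup H) [Z.Normal]
    (hZc : Z ≤ Subgroup.center H) (hcl : ∀ g h : H, ⁅g, h⁆ ∈ Z) (hZne : Z ≠ ⊤)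
    (τ : E →* MulAut H) (hτZ : ∀ σ, ∀ z ∈ Z, τ σ z = z)
    (hfpf : ∀ σ : E, σ ≠ 1 → ∀ h, τ σ h * h⁻¹ ∈ Z → h ∈ Z)
    (α : H →* Module.End K W) (hirr : ∀ S : Submodule K W, (∀ h, ∀ v ∈ S, α h v ∈ S) → S = ⊥ ∨ S = ⊤)
    (hZscal : ∀ z ∈ Z, ∃ c : K, α z = c • 1)
    (hnd : ∀ h : H, h ∉ Z → ∃ g : H, ∃ c : K, c ≠ 1 ∧ α ⁅g, h⁆ = c • 1)
    (β : E →* Module.End K W) (hcov : ∀ σ h, β σ * α h = α (τ σ h) * β σ)
    (hH : (Nat.card H : K) ≠ 0) (hr : (r : K) ≠ 0) (hno : ∀ v : W, (∀ σ, β σ v = v) → v = 0) :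
    ∃ d : ℕ, Z.index = d * d ∧ r = d + 1 := by
  classical
  set d := Module.finrank K W with hd
  have hd2 : d * d = Z.index := degree_sq Z hZc hcl α hirr hZscal hnd hH
  refine ⟨d, hd2.symm, ?_⟩
  have hd1 : 0 < d := Module.finrank_pos
  have hαinv : ∀ h, α h * α h⁻¹ = 1 := fun h => by rw [← map_mul, mul_inv_cancel, map_one]
  have hαinv' : ∀ h, α h⁻¹ * α h = 1 := fun h => by rw [← map_mul, inv_mul_cancel, map_one]
  have hβinv : ∀ σ, β σ * β σ⁻¹ = 1 := fun σ => by rw [← map_mul, mul_inv_cancel, map_one]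
  have hβinv' : ∀ σ, β σ⁻¹ * β σ = 1 := fun σ => by rw [← map_mul, inv_mul_cancel, map_one]
  -- the Frobenius group acting on the endomorphisms
  have hQc : ∀ a b : H ⧸ Z, a * b = b * a := by
    intro a b
    induction a using QuotientGroup.induction_on with
    | H x =>
      induction b using QuotientGroup.induction_on with
      | H y =>
        rw [← QuotientGroup.mk_mul, ← QuotientGroup.mk_mul, QuotientGroup.eq]
        have h : (x * y)⁻¹ * (y * x) = ⁅y⁻¹, x⁻¹⁆ := by rw [commutatorElement_def]; group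
        rw [h]; exact hcl _ _
  haveI : IsMulCommutative (H ⧸ Z) := ⟨⟨hQc⟩⟩
  let cj : H →* Module.End K (Module.End K W) :=
    { toFun := fun h =>
        { toFun := fun f => α h * f * α h⁻¹
          map_add' := fun f g => by rw [mul_add, add_mul]
          map_smul' := fun c f => by rw [mul_smul_comm, smul_mul_assoc]; rfl }
      map_one' := LinearMap.ext fun f => by
        show α 1 * f * α 1⁻¹ = f
        rw [inv_one, map_one, one_mul, mul_one]
      map_mul' := fun g h => LinearMap.ext fun f => by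
        show α (g * h) * f * α (g * h)⁻¹ = α g * (α h * f * α h⁻¹) * α g⁻¹
        rw [mul_inv_rev, map_mul, map_mul]
        simp only [mul_assoc] }
  let αb : H ⧸ Z →* Module.End K (Module.End K W) := QuotientGroup.lift Z cj (fun z hz => by
    refine LinearMap.ext fun f => ?_
    show α z * f * α z⁻¹ = f
    have h := conj_eq_of_eq hZscal (g := z) (h := 1) (by rw [QuotientGroup.eq, mul_one]; exact inv_mem hz) f
    rwa [inv_one, map_one, one_mul, mul_one] at h)
  let βb : E →* Module.End K (Module.End K W) :=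
    { toFun := fun σ =>
        { toFun := fun f => β σ * f * β σ⁻¹
          map_add' := fun f g => by rw [mul_add, add_mul]
          map_smul' := fun c f => by rw [mul_smul_comm, smul_mul_assoc]; rfl }
      map_one' := LinearMap.ext fun f => by
        show β 1 * f * β 1⁻¹ = f
        rw [inv_one, map_one, one_mul, mul_one]
      map_mul' := fun g h => LinearMap.ext fun f => by
        show β (g * h) * f * β (g * h)⁻¹ = β g * (β h * f * β h⁻¹) * β g⁻¹
        rw [mul_inv_rev, map_mul, map_mul]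
        simp only [mul_assoc] }
  have hmapZ : ∀ σ, Z.map (τ σ : H →* H) = Z := fun σ => by
    ext z
    constructor
    · rintro ⟨w, hw, rfl⟩
      show τ σ w ∈ Z
      rw [hτZ σ w hw]; exact hw
    · intro hz
      exact ⟨z, hz, hτZ σ z hz⟩
  let τb : E →* MulAut (H ⧸ Z) :=
    { toFun := fun σ => QuotientGroup.congr Z Z (τ σ) (hmapZ σ)
      map_one' := MulEquiv.ext fun x => by
        induction x using QuotientGroup.induction_on with
        | H h => show QuotientGroup.mk (τ 1 h) = _; rw [map_one]; rfl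
      map_mul' := fun a b => MulEquiv.ext fun x => by
        induction x using QuotientGroup.induction_on with
        | H h => show QuotientGroup.mk (τ (a * b) h) = QuotientGroup.mk (τ a (τ b h)); rw [map_mul]; rfl }
  have hfpfb : ∀ σ : E, σ ≠ 1 → ∀ a : H ⧸ Z, τb σ a = a → a = 1 := by
    intro σ hσ a ha
    induction a using QuotientGroup.induction_on with
    | H h =>
      rw [QuotientGroup.eq_one_iff]
      refine hfpf σ hσ h ?_
      have h1 : (QuotientGroup.mk (τ σ h) : H ⧸ Z) = QuotientGroup.mk h := ha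
      rw [← QuotientGroup.eq_one_iff, QuotientGroup.mk_mul, QuotientGroup.mk_inv, h1, mul_inv_cancel]
  have hcovb : ∀ σ a, βb σ * αb a = αb (τb σ a) * βb σ := by
    intro σ a
    induction a using QuotientGroup.induction_on with
    | H h =>
      refine LinearMap.ext fun f => ?_
      show β σ * (α h * f * α h⁻¹) * β σ⁻¹ = α (τ σ h) * (β σ * f * β σ⁻¹) * α (τ σ h)⁻¹
      have h1 : α h⁻¹ * β σ⁻¹ = β σ⁻¹ * α (τ σ h)⁻¹ := by
        calc α h⁻¹ * β σ⁻¹ = β σ⁻¹ * (β σ * α h⁻¹) * β σ⁻¹ := by rw [← mul_assoc (β σ⁻¹), hβinv', one_mul]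
          _ = β σ⁻¹ * α (τ σ h)⁻¹ := by rw [hcov, map_inv (τ σ), mul_assoc, mul_assoc, hβinv, mul_one]
      calc β σ * (α h * f * α h⁻¹) * β σ⁻¹ = (β σ * α h) * f * (α h⁻¹ * β σ⁻¹) := by simp only [mul_assoc]
        _ = _ := by rw [hcov, h1]; simp only [mul_assoc]
  haveI : Group.IsNilpotent (H ⧸ Z) := by
    letI : CommGroup (H ⧸ Z) := { mul_comm := hQc }
    infer_instance
  have hQK : (Nat.card (H ⧸ Z) : K) ≠ 0 := fun h => hH (by
    rw [← Subgroup.index_mul_card Z, Nat.cast_mul, Subgroup.index_eq_card, h, zero_mul])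
  have hform := CfsgLib.FrobAction.fixed_dim τb hfpfb hQK αb βb hcovb
  have hone : CfsgLib.FrobAction.fixedSub (αb : H ⧸ Z → _) = Submodule.span K {(1 : Module.End K W)} := by
    apply le_antisymm
    · intro f hf
      rw [CfsgLib.FrobAction.mem_fixedSub] at hf
      obtain ⟨c, hc⟩ := scalar_of_commute α hirr (f := f) (fun h => by
        have h1 : α h * f * α h⁻¹ = f := hf (QuotientGroup.mk h)
        conv_lhs => rw [← h1]
        rw [mul_assoc, hαinv', mul_one])
      exact Submodule.mem_span_singleton.2 ⟨c, hc.symm⟩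
    · rw [Submodule.span_le, Set.singleton_subset_iff, SetLike.mem_coe, CfsgLib.FrobAction.mem_fixedSub]
      intro a
      induction a using QuotientGroup.induction_on with
      | H h =>
        show α h * 1 * α h⁻¹ = 1
        rw [mul_one, hαinv]
  have hboth : CfsgLib.FrobAction.fixedSub (αb : H ⧸ Z → _) ⊓ CfsgLib.FrobAction.fixedSub (βb : E → _) =
      Submodule.span K {(1 : Module.End K W)} := by
    rw [hone, inf_eq_left, Submodule.span_le, Set.singleton_subset_iff, SetLike.mem_coe,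
      CfsgLib.FrobAction.mem_fixedSub]
    intro σ
    show β σ * 1 * β σ⁻¹ = 1
    rw [mul_one, hβinv]
  rw [hone] at hform hboth
  rw [hboth, Module.finrank_linearMap, finrank_span_singleton one_ne_zero, hE, mul_one, ← hd] at hform
  set e := Module.finrank K ↥(CfsgLib.FrobAction.fixedSub (βb : E → _)) with he
  -- the eigenspaces of a generator
  haveI hcyc : IsCyclic E := isCyclic_of_prime_card hE
  obtain ⟨σ, hσ⟩ := hcyc.exists_generator
  set x := β σ with hx
  haveI : NeZero (r : K) := ⟨hr⟩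
  obtain ⟨ζ, hζ⟩ := HasEnoughRootsOfUnity.exists_primitiveRoot K r
  have hxr : x ^ r = 1 := by rw [hx, ← map_pow, ← hE, pow_card_eq_one', map_one]
  let P : Fin r → Module.End K W := fun j => (r : K)⁻¹ • ∑ i ∈ Finset.range r, (ζ ^ (j : ℕ))⁻¹ ^ i • x ^ i
  have hsum : ∀ v, ∑ j, P j v = v := by
    intro v
    simp only [P, LinearMap.smul_apply, LinearMap.coe_sum, Finset.sum_apply, ← Finset.smul_sum]
    rw [Finset.sum_comm]
    simp only [← Finset.sum_smul]
    rw [Finset.sum_eq_single 0]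
    · simp [smul_smul, hr, ← Nat.cast_smul_eq_nsmul K]
    · intro i hi hi0
      have hz : ∑ j : Fin r, (ζ ^ (j : ℕ))⁻¹ ^ i = 0 := by
        rw [Fin.sum_univ_eq_sum_range (fun j => (ζ ^ j)⁻¹ ^ i) r]
        have hne : (ζ⁻¹) ^ i ≠ 1 := hζ.inv.pow_ne_one_of_pos_of_lt hi0 (Finset.mem_range.1 hi)
        rw [Finset.sum_congr rfl fun j _ => show (ζ ^ j)⁻¹ ^ i = (ζ⁻¹ ^ i) ^ j by
          rw [← inv_pow, ← pow_mul, ← pow_mul, mul_comm]]
        have h1 := geom_sum_mul ((ζ⁻¹) ^ i) r
        rw [← pow_mul, mul_comm i r, pow_mul, hζ.inv.pow_eq_one, one_pow, sub_self] at h1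
        exact (mul_eq_zero.1 h1).resolve_right (sub_ne_zero.2 hne)
      rw [hz, zero_smul]
    · intro h
      exact absurd (Finset.mem_range.2 (Fact.out : r.Prime).pos) h
  have hPx : ∀ j, ∀ v, x (P j v) = ζ ^ (j : ℕ) • P j v ∧ P j (x v) = x (P j v) := by
    intro j v
    have hz : (ζ ^ (j : ℕ)) ^ r = 1 := by rw [← pow_mul, mul_comm, pow_mul, hζ.pow_eq_one, one_pow]
    have hz0 : ζ ^ (j : ℕ) ≠ 0 := pow_ne_zero _ (hζ.ne_zero (Fact.out : r.Prime).ne_zero)
    set a := (ζ ^ (j : ℕ))⁻¹ with ha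
    have har : a ^ r = 1 := by rw [ha, inv_pow, hz, inv_one]
    let f : ℕ → W := fun i => a ^ i • (x ^ i) v
    have hf : ∑ i ∈ Finset.range r, f (i + 1) = ∑ i ∈ Finset.range r, f i := by
      have h0 : f r = f 0 := by simp [f, har, hxr]
      have h1 := Finset.sum_range_succ f r
      rw [Finset.sum_range_succ' f r, h0] at h1
      exact add_right_cancel h1
    have hval : P j v = (r : K)⁻¹ • ∑ i ∈ Finset.range r, f i := by
      simp only [P, f, LinearMap.smul_apply, LinearMap.coe_sum, Finset.sum_apply]; rfl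
    constructor
    · rw [hval, map_smul, map_sum, smul_comm]
      congr 1
      rw [Finset.smul_sum, ← Finset.smul_sum, ← hf, Finset.smul_sum]
      refine Finset.sum_congr rfl fun i _ => ?_
      simp only [f, map_smul, smul_smul]
      rw [pow_succ' a, ← mul_assoc, ha, mul_inv_cancel₀ hz0, one_mul, pow_succ' x, Module.End.mul_apply]
    · simp only [P, LinearMap.smul_apply, LinearMap.coe_sum, Finset.sum_apply, map_smul, map_sum]
      congr 1
      refine Finset.sum_congr rfl fun i _ => ?_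
      rw [← Module.End.mul_apply, ← Module.End.mul_apply, ← pow_succ, ← pow_succ']
  let S : Fin r → Submodule K W := fun j => LinearMap.ker (x - ζ ^ (j : ℕ) • 1)
  have hS : ∀ j v, v ∈ S j ↔ x v = ζ ^ (j : ℕ) • v := fun j v => by simp [S, sub_eq_zero]
  have hS0 : S ⟨0, (Fact.out : r.Prime).pos⟩ = ⊥ := by
    rw [Submodule.eq_bot_iff]
    intro v hv
    rw [hS] at hv
    simp only [pow_zero, one_smul] at hv
    refine hno v fun τ' => ?_
    obtain ⟨k, rfl⟩ := mem_powers_iff_mem_zpowers.2 (hσ τ')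
    show β (σ ^ k) v = v
    rw [map_pow, ← hx]
    induction k with
    | zero => simp
    | succ k ih => rw [pow_succ, Module.End.mul_apply, hv, ih]
  have hPS : ∀ j v, P j v ∈ S j := fun j v => (hS j _).2 (hPx j v).1
  have hsum1 : d ≤ ∑ j, Module.finrank K (S j) := by
    let T : W →ₗ[K] ((j : Fin r) → S j) := LinearMap.pi fun j => (P j).codRestrict (S j) (hPS j)
    have hT : Function.Injective T := by
      intro v w h
      rw [← hsum v, ← hsum w]
      exact Finset.sum_congr rfl fun j _ => congrArg Subtype.val (congrFun h j)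
    have h := LinearMap.finrank_le_finrank_of_injective hT
    rw [Module.finrank_pi_fintype] at h
    exact h
  have hdelta : ∀ (j k : Fin r) (w : W), w ∈ S k → P j w = if j = k then w else 0 := by
    intro j k w hw
    have hpow : ∀ i : ℕ, (x ^ i) w = (ζ ^ (k : ℕ)) ^ i • w := by
      intro i
      induction i with
      | zero => simp
      | succ i ih => rw [pow_succ', Module.End.mul_apply, ih, map_smul, (hS k w).1 hw, smul_smul, pow_succ]
    simp only [P, LinearMap.smul_apply, LinearMap.coe_sum, Finset.sum_apply, hpow, smul_smul, ← Finset.sum_smul,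
      ← mul_pow]
    by_cases hjk : j = k
    · subst hjk
      rw [if_pos rfl, inv_mul_cancel₀ (pow_ne_zero _ (hζ.ne_zero (Fact.out : r.Prime).ne_zero))]
      simp [hr]
    · rw [if_neg hjk]
      set b := (ζ ^ (j : ℕ))⁻¹ * ζ ^ (k : ℕ) with hb
      have hb1 : b ≠ 1 := by
        intro h
        rw [hb, inv_mul_eq_one₀ (pow_ne_zero _ (hζ.ne_zero (Fact.out : r.Prime).ne_zero))] at h
        exact hjk (Fin.ext (hζ.pow_inj j.2 k.2 h))
      have h1 := geom_sum_mul b r
      have hbr : b ^ r = 1 := by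
        rw [hb, mul_pow, inv_pow, ← pow_mul, ← pow_mul, mul_comm (j : ℕ), mul_comm (k : ℕ), pow_mul, pow_mul,
          hζ.pow_eq_one, one_pow, one_pow, inv_one, one_mul]
      rw [hbr, sub_self] at h1
      rw [(mul_eq_zero.1 h1).resolve_right (sub_ne_zero.2 hb1), mul_zero, zero_smul]
  have hsum2 : ∑ j, Module.finrank K (S j) * Module.finrank K (S j) ≤ e := by
    let Ψ : ((j : Fin r) → Module.End K (S j)) →ₗ[K] Module.End K W :=
      { toFun := fun f => ∑ j, (S j).subtype.comp ((f j).comp ((P j).codRestrict (S j) (hPS j)))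
        map_add' := fun f g => by simp [LinearMap.add_comp, LinearMap.comp_add, Finset.sum_add_distrib]
        map_smul' := fun c f => by simp [LinearMap.smul_comp, LinearMap.comp_smul, Finset.smul_sum] }
    have hΨv : ∀ f v, Ψ f v = ∑ j, ((f j ⟨P j v, hPS j v⟩ : S j) : W) := fun f v => by
      simp [Ψ]
      rfl
    have hrange : LinearMap.range Ψ ≤ CfsgLib.FrobAction.fixedSub (βb : E → _) := by
      rintro _ ⟨f, rfl⟩
      rw [CfsgLib.FrobAction.mem_fixedSub]
      intro τ'
      obtain ⟨k, rfl⟩ := mem_powers_iff_mem_zpowers.2 (hσ τ')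
      have hcomm : x * Ψ f = Ψ f * x := by
        refine LinearMap.ext fun v => ?_
        rw [Module.End.mul_apply, Module.End.mul_apply, hΨv, hΨv, map_sum]
        refine Finset.sum_congr rfl fun j _ => ?_
        have e1 : (⟨P j (x v), hPS j (x v)⟩ : S j) = ζ ^ (j : ℕ) • ⟨P j v, hPS j v⟩ :=
          Subtype.ext ((hPx j v).2.trans (hPx j v).1)
        rw [e1, map_smul, Submodule.coe_smul]
        exact (hS j _).1 (f j ⟨P j v, hPS j v⟩).2
      show β (σ ^ k) * Ψ f * β (σ ^ k)⁻¹ = Ψ f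
      rw [map_pow, ← hx, (show Commute (x ^ k) (Ψ f) from (show Commute x (Ψ f) from hcomm).pow_left k).eq, mul_assoc,
        hx, ← map_pow, hβinv, mul_one]
    have hΨ : Function.Injective Ψ := by
      intro f g h
      refine funext fun j => LinearMap.ext fun w => Subtype.ext ?_
      have key : ∀ f : (j : Fin r) → Module.End K (S j), Ψ f (w : W) = ((f j w : S j) : W) := fun f => by
        rw [hΨv, Finset.sum_eq_single j]
        · congr 2
          exact Subtype.ext ((hdelta j j w w.2).trans (if_pos rfl))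
        · intro i _ hi
          have : (⟨P i w, hPS i w⟩ : S i) = 0 := Subtype.ext ((hdelta i j w w.2).trans (if_neg hi))
          rw [this, map_zero, Submodule.coe_zero]
        · exact fun h => absurd (Finset.mem_univ j) h
      rw [← key f, ← key g, h]
    have h := LinearMap.finrank_range_of_inj hΨ
    rw [Module.finrank_pi_fintype] at h
    simp only [Module.finrank_linearMap] at h
    rw [← h, he]
    exact Submodule.finrank_mono hrange
  -- arithmetic
  set j0 : Fin r := ⟨0, (Fact.out : r.Prime).pos⟩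
  set m : Fin r → ℕ := fun j => Module.finrank K (S j) with hm
  have hm0 : m j0 = 0 := by rw [hm]; show Module.finrank K (S j0) = 0; rw [hS0, finrank_bot]
  have hcs : d * d ≤ (r - 1) * e := by
    have h1 := sq_sum_le_card_mul_sum_sq (s := Finset.univ.erase j0) (f := m)
    rw [Finset.card_erase_of_mem (Finset.mem_univ _), Finset.card_univ, Fintype.card_fin,
      Finset.sum_erase _ hm0, Finset.sum_erase _ (by rw [hm0]; rfl)] at h1
    calc d * d ≤ (∑ j, m j) ^ 2 := by rw [pow_two]; exact Nat.mul_le_mul hsum1 hsum1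
      _ ≤ (r - 1) * ∑ j, m j ^ 2 := h1
      _ ≤ (r - 1) * e := Nat.mul_le_mul_left _ (by simpa [pow_two] using hsum2)
  have hr2 := (Fact.out : r.Prime).two_le
  obtain ⟨s, hs⟩ : ∃ s, r = s + 1 := ⟨r - 1, by omega⟩
  subst hs
  rw [Nat.add_sub_cancel] at hcs
  -- `(s + 1) + d² = (s + 1) e + 1`
  have hds : d * d ≤ s * s := by nlinarith
  have hle : d ≤ s := Nat.mul_self_le_mul_self_iff.1 hds
  have hdne : d ≠ 1 := fun h => hZne (Subgroup.index_eq_one.1 (by rw [← hd2, h]))
  obtain ⟨t, ht⟩ : ∃ t, d = t + 1 := ⟨d - 1, by omega⟩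
  have hdvd : s + 1 ∣ t * (d + 1) := by
    have h1 : t * (d + 1) + (s + 1) = (s + 1) * e := by rw [ht] at hform ⊢; linarith
    exact (Nat.dvd_add_left (dvd_refl (s + 1))).1 (h1 ▸ Dvd.intro e rfl)
  rcases (Fact.out : (s + 1).Prime).dvd_mul.1 hdvd with h | h
  · exfalso
    rcases Nat.eq_zero_or_pos t with h0 | h0
    · exact hdne (by omega)
    · have := Nat.le_of_dvd h0 h
      omega
  · have := Nat.le_of_dvd (by omega) h
    omega

end Irreducible

section General

variable [IsAlgClosed K] {W : Type v} [AddCommGroup W] [Module K W] [FiniteDimensional K W] [Nontrivial W]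
variable {E : Type z} [Group E] [Finite E]

/-- A group of prime order `r` without fixed vectors acting on a class two group with scalar nondegenerate
centre: the index of the centre is `(r - 1)²`. -/
theorem index_eq (r : ℕ) [Fact r.Prime] (hE : Nat.card E = r) (Z : Subgroup H) [Z.Normal]
    (hZc : Z ≤ Subgroup.center H) (hcl : ∀ g h : H, ⁅g, h⁆ ∈ Z) (hZne : Z ≠ ⊤)
    (τ : E →* MulAut H) (hτZ : ∀ σ, ∀ z ∈ Z, τ σ z = z)
    (hfpf : ∀ σ : E, σ ≠ 1 → ∀ h, τ σ h * h⁻¹ ∈ Z → h ∈ Z)
    (α : H →* Module.End K W) (hZscal : ∀ z ∈ Z, ∃ c : K, α z = c • 1)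
    (hnd : ∀ h : H, h ∉ Z → ∃ g : H, ∃ c : K, c ≠ 1 ∧ α ⁅g, h⁆ = c • 1)
    (β : E →* Module.End K W) (hcov : ∀ σ h, β σ * α h = α (τ σ h) * β σ)
    (hH : (Nat.card H : K) ≠ 0) (hr : (r : K) ≠ 0) (hno : ∀ v : W, (∀ σ, β σ v = v) → v = 0) :
    ∃ d : ℕ, Z.index = d * d ∧ r = d + 1 := by
  classical
  letI : Fintype (H ⧸ Z) := Fintype.ofFinite _
  have hidx : (Z.index : K) ≠ 0 := fun h => hH (by rw [← Subgroup.index_mul_card Z, Nat.cast_mul, h, zero_mul])
  obtain ⟨σ, hσ1⟩ : ∃ σ : E, σ ≠ 1 := by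
    by_contra h
    push_neg at h
    haveI : Subsingleton E := ⟨fun a b => (h a).trans (h b).symm⟩
    rw [Nat.card_of_subsingleton (1 : E)] at hE
    exact (Fact.out : r.Prime).one_lt.ne hE
  set A := avg Z α (β σ) with hA
  have hAα : ∀ h, A * α h = α h * A := fun h => avg_commute hZscal h _
  have hβinv : ∀ τ', β τ' * β τ'⁻¹ = 1 := fun τ' => by rw [← map_mul, mul_inv_cancel, map_one]
  have hβinv' : ∀ τ', β τ'⁻¹ * β τ' = 1 := fun τ' => by rw [← map_mul, inv_mul_cancel, map_one]
  have hAB : A * avg Z α (β σ⁻¹) = (Z.index : K) • 1 := by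
    calc A * avg Z α (β σ⁻¹) = avg Z α (β σ * avg Z α (β σ⁻¹)) := by
          simp only [hA, avg, Finset.sum_mul]
          refine Finset.sum_congr rfl fun q _ => ?_
          have h := avg_commute (α := α) hZscal q.out⁻¹ (β σ⁻¹)
          simp only [avg] at h
          rw [mul_assoc _ (α q.out⁻¹), ← h]
          simp only [mul_assoc]
      _ = avg Z α (∑ p : H ⧸ Z, α (τ σ p.out * p.out⁻¹)) := by
          congr 1
          rw [avg, Finset.mul_sum]
          refine Finset.sum_congr rfl fun p _ => ?_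
          rw [← mul_assoc, ← mul_assoc, hcov, mul_assoc (α (τ σ p.out)), hβinv, mul_one, ← map_mul]
      _ = ∑ p : H ⧸ Z, avg Z α (α (τ σ p.out * p.out⁻¹)) := by
          simp only [avg, Finset.mul_sum, Finset.sum_mul]
          exact Finset.sum_comm
      _ = (Z.index : K) • 1 := by
          rw [Finset.sum_eq_single (1 : H ⧸ Z)]
          · have hmem : (1 : H ⧸ Z).out ∈ Z := by rw [← QuotientGroup.eq_one_iff, QuotientGroup.out_eq']
            rw [hτZ σ _ hmem, mul_inv_cancel, avg_of_mem hZscal (one_mem Z), map_one]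
          · intro p _ hp
            refine avg_of_notMem hZscal hcl hZc hnd fun h => hp ?_
            rw [← QuotientGroup.out_eq' p]
            exact (QuotientGroup.eq_one_iff _).2 (hfpf σ hσ1 _ h)
          · exact fun h => absurd (Finset.mem_univ _) h
  have hmapZ : Z.map (τ σ : H →* H) = Z := by
    ext z
    constructor
    · rintro ⟨w, hw, rfl⟩
      show τ σ w ∈ Z
      rw [hτZ σ w hw]; exact hw
    · intro hz
      exact ⟨z, hz, hτZ σ z hz⟩
  have hβA : β σ * A * β σ⁻¹ = A := by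
    rw [hA, avg, Finset.mul_sum, Finset.sum_mul]
    refine Fintype.sum_equiv (QuotientGroup.congr Z Z (τ σ) hmapZ).toEquiv _ _ fun q => ?_
    have h : (QuotientGroup.mk ((QuotientGroup.congr Z Z (τ σ) hmapZ).toEquiv q).out : H ⧸ Z) =
        QuotientGroup.mk (τ σ q.out) := by
      rw [QuotientGroup.out_eq']
      conv_lhs => rw [← QuotientGroup.out_eq' q]
      rfl
    rw [conj_eq_of_eq hZscal h]
    have h1 : α q.out⁻¹ * β σ⁻¹ = β σ⁻¹ * α (τ σ q.out)⁻¹ := by
      calc α q.out⁻¹ * β σ⁻¹ = β σ⁻¹ * (β σ * α q.out⁻¹) * β σ⁻¹ := by rw [← mul_assoc (β σ⁻¹), hβinv', one_mul]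
        _ = β σ⁻¹ * α (τ σ q.out)⁻¹ := by rw [hcov, map_inv (τ σ), mul_assoc, mul_assoc, hβinv, mul_one]
    calc β σ * (α q.out * β σ * α q.out⁻¹) * β σ⁻¹ = (β σ * α q.out) * β σ * (α q.out⁻¹ * β σ⁻¹) := by
          simp only [mul_assoc]
      _ = _ := by
          rw [hcov, h1]
          simp only [mul_assoc]
          rw [← mul_assoc (β σ) (β σ⁻¹), hβinv, one_mul]
  obtain ⟨μ, hμ⟩ := Module.End.exists_eigenvalue A
  set U := A.eigenspace μ with hU
  have hUα : ∀ h, ∀ v ∈ U, α h v ∈ U := by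
    intro h v hv
    rw [hU, Module.End.mem_eigenspace_iff] at hv ⊢
    rw [← Module.End.mul_apply, hAα, Module.End.mul_apply, hv, map_smul]
  have hμ0 : μ ≠ 0 := by
    intro h
    obtain ⟨v, hv, hv0⟩ := Submodule.exists_mem_ne_zero_of_ne_bot hμ
    have h1 : avg Z α (β σ⁻¹) * A = (Z.index : K) • 1 := by
      have h2 : A * ((Z.index : K)⁻¹ • avg Z α (β σ⁻¹)) = 1 := by
        rw [mul_smul_comm, hAB, smul_smul, inv_mul_cancel₀ hidx, one_smul]
      have h3 := mul_eq_one_comm.1 h2
      rw [smul_mul_assoc] at h3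
      rw [← h3, smul_smul, mul_inv_cancel₀ hidx, one_smul]
    have h4 := LinearMap.congr_fun h1 v
    rw [Module.End.mul_apply, Module.End.mem_eigenspace_iff.1 hv, h, zero_smul, map_zero, LinearMap.smul_apply,
      Module.End.one_apply, eq_comm, smul_eq_zero] at h4
    exact hv0 (h4.resolve_left hidx)
  obtain ⟨n, hn⟩ : ∃ n, ∃ S : Submodule K W, S ≠ ⊥ ∧ S ≤ U ∧ (∀ h, ∀ v ∈ S, α h v ∈ S) ∧ Module.finrank K S = n :=
    ⟨_, U, hμ, le_rfl, hUα, rfl⟩
  have hex : ∃ n, ∃ S : Submodule K W, S ≠ ⊥ ∧ S ≤ U ∧ (∀ h, ∀ v ∈ S, α h v ∈ S) ∧ Module.finrank K S = n := ⟨n, hn⟩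
  obtain ⟨S, hS0, hSU, hSα, hSn⟩ := Nat.find_spec hex
  have hmin : ∀ T : Submodule K W, T ≤ S → (∀ h, ∀ v ∈ T, α h v ∈ T) → T = ⊥ ∨ T = S := by
    intro T hT hTα
    by_contra hne
    push_neg at hne
    have hlt : Module.finrank K T < Module.finrank K S := Submodule.finrank_lt_finrank_of_lt (lt_of_le_of_ne hT hne.2)
    exact Nat.find_min hex (hSn ▸ hlt) ⟨T, hne.1, hT.trans hSU, hTα, rfl⟩
  haveI : Nontrivial S := Submodule.nontrivial_iff_ne_bot.2 hS0
  set Eop := ∑ q : H ⧸ Z, α (q.out * τ σ q.out⁻¹) with hEop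
  have hE2 : A = Eop * β σ := by
    rw [hA, avg, hEop, Finset.sum_mul]
    refine Finset.sum_congr rfl fun q _ => ?_
    rw [map_mul, mul_assoc, mul_assoc, hcov]
  have hSinv : ∀ v ∈ S, β σ⁻¹ v ∈ S := by
    intro v hv
    have hmem : Eop v ∈ S := by
      rw [hEop, LinearMap.coe_sum, Finset.sum_apply]
      exact sum_mem fun q _ => hSα _ v hv
    have hU' : β σ⁻¹ v ∈ U := by
      rw [hU, Module.End.mem_eigenspace_iff]
      have h1 : A * β σ⁻¹ = β σ⁻¹ * A := by
        conv_rhs => rw [← hβA, ← mul_assoc, ← mul_assoc, hβinv', one_mul]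
      rw [← Module.End.mul_apply, h1, Module.End.mul_apply, Module.End.mem_eigenspace_iff.1 (hSU hv), map_smul]
    have h2 : Eop v = μ • β σ⁻¹ v := by
      have h3 : A (β σ⁻¹ v) = Eop v := by
        rw [hE2, Module.End.mul_apply, ← Module.End.mul_apply (β σ), hβinv, Module.End.one_apply]
      rw [← h3, Module.End.mem_eigenspace_iff.1 hU']
    have h4 : β σ⁻¹ v = μ⁻¹ • Eop v := by rw [h2, smul_smul, inv_mul_cancel₀ hμ0, one_smul]
    rw [h4]
    exact S.smul_mem _ hmem
  haveI hcyc : IsCyclic E := isCyclic_of_prime_card hE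
  have hSβ : ∀ τ', ∀ v ∈ S, β τ' v ∈ S := by
    intro τ' v hv
    obtain ⟨k, rfl⟩ := mem_powers_iff_mem_zpowers.2
      (mem_zpowers_of_prime_card hE (inv_ne_one.2 hσ1) : τ' ∈ Subgroup.zpowers σ⁻¹)
    show β (σ⁻¹ ^ k) v ∈ S
    induction k with
    | zero => simpa using hv
    | succ k ih => rw [pow_succ', map_mul, Module.End.mul_apply]; exact hSinv _ ih
  let α0 : H →* Module.End K S :=
    { toFun := fun h => (α h).restrict (hSα h)
      map_one' := LinearMap.ext fun v => Subtype.ext (by simp)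
      map_mul' := fun g h => LinearMap.ext fun v => Subtype.ext (by simp) }
  let β0 : E →* Module.End K S :=
    { toFun := fun h => (β h).restrict (hSβ h)
      map_one' := LinearMap.ext fun v => Subtype.ext (by simp)
      map_mul' := fun g h => LinearMap.ext fun v => Subtype.ext (by simp) }
  have hscal : ∀ h (c : K), α h = c • 1 → α0 h = c • 1 := fun h c hc =>
    LinearMap.ext fun v => Subtype.ext (by
      show α h v = _
      rw [hc]; simp)
  refine irreducible_case r hE Z hZc hcl hZne τ hτZ hfpf α0 ?_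
    (fun z hz => (hZscal z hz).imp fun c hc => hscal z c hc)
    (fun h hh => by
      obtain ⟨g, c, hc1, hc⟩ := hnd h hh
      exact ⟨g, c, hc1, hscal _ c hc⟩)
    β0 (fun τ' h => LinearMap.ext fun v => Subtype.ext (by
      show β τ' (α h v) = α (τ τ' h) (β τ' v)
      rw [← Module.End.mul_apply, hcov, Module.End.mul_apply])) hH hr
    (fun v hv => Subtype.ext (hno v fun τ' => congrArg Subtype.val (hv τ')))
  intro T hT
  have h := hmin (T.map S.subtype) (Submodule.map_subtype_le _ _) (by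
    rintro h _ ⟨w, hw, rfl⟩
    exact ⟨α0 h w, hT h w hw, rfl⟩)
  rcases h with h | h
  · exact Or.inl (Submodule.map_injective_of_injective (Submodule.subtype_injective S) (by rw [h, Submodule.map_bot]))
  · exact Or.inr (Submodule.map_injective_of_injective (Submodule.subtype_injective S)
      (by rw [h, Submodule.map_top, Submodule.range_subtype]))

end General

end CfsgLib.SymplecticCore
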