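import Mathlib
import Cfsg.Agent.Lib.FrobAction.SymplecticCore

/-!
A group of prime order acting on a `q`-group, both acting on a module on which the group of prime order fixes
only zero: the commutator acts trivially, apart from the Fermat prime exception for `q = 2`.
-/

set_option autoImplicit false
set_option linter.unusedSectionVars false

namespace CfsgLib.QGroupModule

open scoped commutatorElement

universe u v w z

variable {K : Type u} [Field K] [IsAlgClosed K]
variable {E : Type z} [Group E] [Finite E]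

/-- An element of `q`-power order shifted by fixed elements is fixed by a group of order prime to `q`. -/
theorem fixed_of_shift {H : Type w} [Group H] (q : ℕ) [Fact q.Prime] (hH : IsPGroup q H) {r : ℕ} [Fact r.Prime]
    (hqr : q ≠ r) (hE : Nat.card E = r) (τ : E →* MulAut H) (σ : E) (h : H) (hc : τ σ (τ σ h * h⁻¹) = τ σ h * h⁻¹) :
    τ σ h = h := by
  set c := τ σ h * h⁻¹ with hcdef
  have h1 : τ σ h = c * h := by rw [hcdef, inv_mul_cancel_right]
  have hpow : ∀ k : ℕ, τ (σ ^ k) h = c ^ k * h := by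
    intro k
    induction k with
    | zero => simp
    | succ k ih =>
      rw [pow_succ' σ, map_mul, MulAut.mul_apply, ih, map_mul, map_pow, hc, pow_succ, mul_assoc, ← h1]
  have h2 := hpow r
  rw [← hE, pow_card_eq_one', map_one, MulAut.one_apply, right_eq_mul, hE] at h2
  obtain ⟨m, hm⟩ := hH c
  have hdvd : orderOf c ∣ Nat.gcd r (q ^ m) := Nat.dvd_gcd (orderOf_dvd_of_pow_eq_one h2) (orderOf_dvd_of_pow_eq_one hm)
  have hcop : Nat.gcd r (q ^ m) = 1 :=
    Nat.Coprime.pow_right m ((Nat.coprime_primes (Fact.out : r.Prime) (Fact.out : q.Prime)).2 hqr.symm)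
  rw [hcop, Nat.dvd_one, orderOf_eq_one_iff] at hdvd
  rw [h1, hdvd, one_mul]

/-- Fixed by one non-trivial element of a group of prime order means fixed by all of it. -/
theorem fixed_all {H : Type w} [Group H] {r : ℕ} [Fact r.Prime] (hE : Nat.card E = r) (τ : E →* MulAut H)
    {σ : E} (hσ : σ ≠ 1) {h : H} (hh : τ σ h = h) (σ' : E) : τ σ' h = h := by
  obtain ⟨k, rfl⟩ := mem_powers_iff_mem_zpowers.2 (mem_zpowers_of_prime_card hE hσ : σ' ∈ Subgroup.zpowers σ)
  show τ (σ ^ k) h = h
  induction k with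
  | zero => simp
  | succ k ih => rw [pow_succ, map_mul, MulAut.mul_apply, hh, ih]

/-- A central element fixed by the operators and acting non-trivially: there is a submodule on which the centre is
scalar and this element is a scalar other than one. -/
theorem exists_scalar_part {H : Type w} [Group H] [Finite H] (Z : Subgroup H) (hZc : Z ≤ Subgroup.center H)
    (τ : E →* MulAut H) (hτZ : ∀ σ, ∀ z ∈ Z, τ σ z = z) {W : Type v} [AddCommGroup W] [Module K W]
    [FiniteDimensional K W] (α : H →* Module.End K W) (β : E →* Module.End K W)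
    (hcov : ∀ σ h, β σ * α h = α (τ σ h) * β σ) (hno : ∀ v : W, (∀ σ, β σ v = v) → v = 0) {c0 : H} (hc0 : c0 ∈ Z)
    (hc0α : α c0 ≠ 1) (hH : (Nat.card H : K) ≠ 0) :
    ∃ (S : Submodule K W) (α0 : H →* Module.End K S) (β0 : E →* Module.End K S), S ≠ ⊥ ∧
      (∀ σ h, β0 σ * α0 h = α0 (τ σ h) * β0 σ) ∧ (∀ v : S, (∀ σ, β0 σ v = v) → v = 0) ∧
      (∀ z ∈ Z, ∃ c : K, α0 z = c • 1) ∧ ∃ c : K, c ≠ 1 ∧ α0 c0 = c • 1 := by
  classical
  have hcen : ∀ z ∈ Z, ∀ h, α h * α z = α z * α h := fun z hz h => by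
    rw [← map_mul, ← map_mul, Subgroup.mem_center_iff.1 (hZc hz) h]
  have hfixZ : ∀ z ∈ Z, ∀ σ, β σ * α z = α z * β σ := fun z hz σ => by rw [hcov, hτZ σ z hz]
  let Inv : Submodule K W → Prop := fun S => (∀ h, ∀ v ∈ S, α h v ∈ S) ∧ (∀ σ, ∀ v ∈ S, β σ v ∈ S)
  have heig : ∀ z ∈ Z, ∀ (c : K) (S : Submodule K W), Inv S → Inv (S ⊓ (α z).eigenspace c) := by
    intro z hz c S hS
    refine ⟨fun h v hv => ?_, fun σ v hv => ?_⟩ <;>
      rw [Submodule.mem_inf, Module.End.mem_eigenspace_iff] at hv ⊢
    · exact ⟨hS.1 h v hv.1, by rw [← Module.End.mul_apply, ← hcen z hz h, Module.End.mul_apply, hv.2, map_smul]⟩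
    · exact ⟨hS.2 σ v hv.1, by rw [← Module.End.mul_apply, ← hfixZ z hz σ, Module.End.mul_apply, hv.2, map_smul]⟩
  -- an eigenvalue of `c0` other than one
  set x := α c0 with hx
  set N := Nat.card H with hN
  have hxN : x ^ N = 1 := by rw [hx, hN, ← map_pow, pow_card_eq_one', map_one]
  obtain ⟨μ, hμ1, hμ⟩ : ∃ μ : K, μ ≠ 1 ∧ x.eigenspace μ ≠ ⊥ := by
    by_contra hall
    push_neg at hall
    apply hc0α
    -- `∑ x ^ i` kills the range of `x - 1`; there `x` has an eigenvector
    set U := LinearMap.range (x - 1) with hU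
    have hUx : ∀ v ∈ U, x v ∈ U := by
      rintro _ ⟨w, rfl⟩
      exact ⟨x w, by simp [LinearMap.sub_apply]⟩
    by_cases hUb : U = ⊥
    · exact sub_eq_zero.1 (LinearMap.range_eq_bot.1 hUb)
    haveI : Nontrivial U := Submodule.nontrivial_iff_ne_bot.2 hUb
    obtain ⟨c, hc⟩ := Module.End.exists_eigenvalue (x.restrict hUx)
    obtain ⟨u, hu, hu0⟩ := Submodule.exists_mem_ne_zero_of_ne_bot hc
    rw [Module.End.mem_eigenspace_iff] at hu
    have hu' : x u = c • (u : W) := congrArg Subtype.val hu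
    have hune : (u : W) ≠ 0 := fun h => hu0 (Subtype.ext h)
    by_cases hc1 : c = 1
    · subst hc1
      rw [one_smul] at hu'
      obtain ⟨w, hw⟩ := u.2
      have hT : (∑ i ∈ Finset.range N, x ^ i) * (x - 1) = 0 := by rw [geom_sum_mul, hxN, sub_self]
      have h1 : (∑ i ∈ Finset.range N, x ^ i) (u : W) = 0 := by
        rw [← hw, ← Module.End.mul_apply, hT, LinearMap.zero_apply]
      have h2 : ∀ i : ℕ, (x ^ i) (u : W) = u := by
        intro i
        induction i with
        | zero => simp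
        | succ i ih => rw [pow_succ, Module.End.mul_apply, hu', ih]
      rw [LinearMap.coe_sum, Finset.sum_apply, Finset.sum_congr rfl fun i _ => h2 i, Finset.sum_const,
        Finset.card_range, ← Nat.cast_smul_eq_nsmul K, smul_eq_zero] at h1
      exact (hune (h1.resolve_left hH)).elim
    · have := hall c hc1
      have hmem : (u : W) ∈ x.eigenspace c := Module.End.mem_eigenspace_iff.2 hu'
      rw [this, Submodule.mem_bot] at hmem
      exact (hune hmem).elim
  have hU0 : Inv (x.eigenspace μ) := by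
    have h := heig c0 hc0 μ ⊤ ⟨fun _ _ _ => Submodule.mem_top, fun _ _ _ => Submodule.mem_top⟩
    rwa [top_inf_eq] at h
  have hex : ∃ n, ∃ S : Submodule K W, S ≠ ⊥ ∧ S ≤ x.eigenspace μ ∧ Inv S ∧ Module.finrank K S = n :=
    ⟨_, _, hμ, le_rfl, hU0, rfl⟩
  obtain ⟨S, hS0, hSμ, hSinv, hSn⟩ := Nat.find_spec hex
  haveI : Nontrivial S := Submodule.nontrivial_iff_ne_bot.2 hS0
  let α0 : H →* Module.End K S :=
    { toFun := fun h => (α h).restrict (hSinv.1 h)
      map_one' := LinearMap.ext fun v => Subtype.ext (by simp)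
      map_mul' := fun g h => LinearMap.ext fun v => Subtype.ext (by simp) }
  let β0 : E →* Module.End K S :=
    { toFun := fun h => (β h).restrict (hSinv.2 h)
      map_one' := LinearMap.ext fun v => Subtype.ext (by simp)
      map_mul' := fun g h => LinearMap.ext fun v => Subtype.ext (by simp) }
  refine ⟨S, α0, β0, hS0, fun σ h => LinearMap.ext fun v => Subtype.ext ?_,
    fun v hv => Subtype.ext (hno v fun σ => congrArg Subtype.val (hv σ)), fun z hz => ?_, μ, hμ1, ?_⟩
  · show β σ (α h v) = α (τ σ h) (β σ v)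
    rw [← Module.End.mul_apply, hcov, Module.End.mul_apply]
  · obtain ⟨c, hc⟩ := Module.End.exists_eigenvalue (α0 z)
    obtain ⟨u, hu, hu0⟩ := Submodule.exists_mem_ne_zero_of_ne_bot hc
    rw [Module.End.mem_eigenspace_iff] at hu
    have hu' : α z u = c • (u : W) := congrArg Subtype.val hu
    have hT : S ⊓ (α z).eigenspace c = S := by
      by_contra hne
      have hlt := Submodule.finrank_lt_finrank_of_lt (lt_of_le_of_ne (inf_le_left (a := S)) hne)
      refine Nat.find_min hex (hSn ▸ hlt) ⟨_, ?_, inf_le_left.trans hSμ, heig z hz c S hSinv, rfl⟩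
      intro hbot
      have hmem : (u : W) ∈ S ⊓ (α z).eigenspace c := ⟨u.2, Module.End.mem_eigenspace_iff.2 hu'⟩
      rw [hbot, Submodule.mem_bot] at hmem
      exact hu0 (Subtype.ext hmem)
    refine ⟨c, LinearMap.ext fun v => Subtype.ext ?_⟩
    have hv : (v : W) ∈ S ⊓ (α z).eigenspace c := hT.symm ▸ v.2
    show α z v = _
    rw [Module.End.mem_eigenspace_iff.1 (Submodule.mem_inf.1 hv).2]
    simp
  · refine LinearMap.ext fun v => Subtype.ext ?_
    show x v = _
    rw [Module.End.mem_eigenspace_iff.1 (hSμ v.2)]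
    simp

/-- The arithmetic of the exceptional case. -/
theorem fermat_arith {q r d N m : ℕ} (hq : q.Prime) (hr : r.Prime) (hN : N = q ^ m) (hN1 : N ≠ 1) (hd : N = d * d)
    (hrd : r = d + 1) : q = 2 ∧ ∃ i : ℕ, r = 2 ^ i + 1 ∧ N = 2 ^ (2 * i) := by
  obtain ⟨i, -, rfl⟩ := (Nat.dvd_prime_pow hq).1 (show d ∣ q ^ m from hN ▸ hd ▸ Dvd.intro d rfl)
  have hi : i ≠ 0 := by
    rintro rfl
    exact hN1 (by simpa using hd)
  have hq2 : q = 2 := by
    rcases hq.eq_two_or_odd' with h | h
    · exact h
    exfalso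
    obtain ⟨k, hk⟩ : Odd (q ^ i) := h.pow
    rcases hr.eq_two_or_odd' with h2 | h2
    · have := Nat.one_lt_pow hi hq.one_lt
      omega
    · obtain ⟨l, hl⟩ := h2
      omega
  subst hq2
  exact ⟨rfl, i, hrd, by rw [hd, ← pow_add, two_mul]⟩

/-- A group of prime order `r` acting on a `q`-group, both acting on a module over an algebraically closed field
where the first fixes only zero: outside the exceptional case its commutators act trivially. -/
theorem action_trivial {q r : ℕ} [Fact q.Prime] [Fact r.Prime] (hqr : q ≠ r) (hqK : (q : K) ≠ 0) (hrK : (r : K) ≠ 0)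
    (hE : Nat.card E = r) {W : Type v} [AddCommGroup W] [Module K W] [FiniteDimensional K W] {H : Type w} [Group H]
    [Finite H] (hH : IsPGroup q H) (hexc : q = 2 → (∃ m, r = 2 ^ m + 1) → IsMulCommutative H) (τ : E →* MulAut H)
    (α : H →* Module.End K W) (β : E →* Module.End K W) (hcov : ∀ σ h, β σ * α h = α (τ σ h) * β σ)
    (hno : ∀ v : W, (∀ σ, β σ v = v) → v = 0) : ∀ σ h, α (τ σ h) = α h := by
  suffices hmain : ∀ (n : ℕ) (H : Type w) [Group H] [Finite H], Nat.card H = n → IsPGroup q H →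
      (q = 2 → (∃ m, r = 2 ^ m + 1) → IsMulCommutative H) → ∀ (τ : E →* MulAut H) (α : H →* Module.End K W),
      (∀ σ h, β σ * α h = α (τ σ h) * β σ) → ∀ σ h, α (τ σ h) = α h from hmain _ H rfl hH hexc τ α hcov
  clear! H
  intro n
  induction n using Nat.strong_induction_on with
  | _ n ih =>
  intro H _ _ hn hH hexc τ α hcov
  classical
  have hβinv : ∀ σ, β σ * β σ⁻¹ = 1 := fun σ => by rw [← map_mul, mul_inv_cancel, map_one]
  by_cases hN : α.ker = ⊥
  swap
  · have hmap : ∀ σ, α.ker.map (τ σ : H →* H) = α.ker := by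
      have half : ∀ σ, ∀ z ∈ α.ker, τ σ z ∈ α.ker := by
        intro σ z hz
        rw [MonoidHom.mem_ker] at hz ⊢
        calc α (τ σ z) = α (τ σ z) * (β σ * β σ⁻¹) := by rw [hβinv, mul_one]
          _ = β σ * α z * β σ⁻¹ := by rw [hcov, mul_assoc]
          _ = 1 := by rw [hz, mul_one, hβinv]
      intro σ
      refine le_antisymm (by rintro _ ⟨z, hz, rfl⟩; exact half σ z hz) fun z hz => ⟨τ σ⁻¹ z, half _ z hz, ?_⟩
      show τ σ (τ σ⁻¹ z) = z
      rw [← MulAut.mul_apply, ← map_mul, mul_inv_cancel, map_one, MulAut.one_apply]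
    let τb : E →* MulAut (H ⧸ α.ker) :=
      { toFun := fun σ => QuotientGroup.congr α.ker α.ker (τ σ) (hmap σ)
        map_one' := MulEquiv.ext fun x => by
          induction x using QuotientGroup.induction_on with
          | H h => show QuotientGroup.mk (τ 1 h) = _; rw [map_one]; rfl
        map_mul' := fun a b => MulEquiv.ext fun x => by
          induction x using QuotientGroup.induction_on with
          | H h => show QuotientGroup.mk (τ (a * b) h) = QuotientGroup.mk (τ a (τ b h)); rw [map_mul]; rfl }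
    have hlt : Nat.card (H ⧸ α.ker) < n := by
      rw [← hn, ← Subgroup.index_eq_card, ← Subgroup.index_mul_card α.ker]
      refine lt_mul_of_one_lt_right (Nat.pos_of_ne_zero Subgroup.index_ne_zero_of_finite) ?_
      exact (Subgroup.one_lt_card_iff_ne_bot _).2 hN
    have h := ih _ hlt (H ⧸ α.ker) rfl (hH.to_quotient _) (fun h1 h2 => by
      haveI := hexc h1 h2
      exact ⟨⟨fun a b => QuotientGroup.induction_on a fun x => QuotientGroup.induction_on b fun y => by
        rw [← QuotientGroup.mk_mul, ← QuotientGroup.mk_mul, mul_comm']⟩⟩) τb (QuotientGroup.lift α.ker α le_rfl)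
      (fun σ a => QuotientGroup.induction_on a fun x => hcov σ x)
    exact fun σ x => h σ (QuotientGroup.mk x)
  have hinj : ∀ h, α h = 1 → h = 1 := fun h hh => by
    have : h ∈ α.ker := hh
    rwa [hN, Subgroup.mem_bot] at this
  have hinjα : Function.Injective α := fun a b hab => by
    have h1 : α (a * b⁻¹) = 1 := by rw [map_mul, hab, ← map_mul, mul_inv_cancel, map_one]
    exact mul_inv_eq_one.1 (hinj _ h1)
  -- proper invariant subgroups are fixed
  have hprop : ∀ M : Subgroup H, M ≠ ⊤ → (∀ σ, ∀ x ∈ M, τ σ x ∈ M) → ∀ σ, ∀ x ∈ M, τ σ x = x := by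
    intro M hM hMinv σ x hx
    let τM : E →* MulAut M :=
      { toFun := fun σ =>
          { toFun := fun y => ⟨τ σ y, hMinv σ y y.2⟩
            invFun := fun y => ⟨τ σ⁻¹ y, hMinv σ⁻¹ y y.2⟩
            left_inv := fun y => Subtype.ext (by
              show τ σ⁻¹ (τ σ y) = y
              rw [← MulAut.mul_apply, ← map_mul, inv_mul_cancel, map_one, MulAut.one_apply])
            right_inv := fun y => Subtype.ext (by
              show τ σ (τ σ⁻¹ y) = y
              rw [← MulAut.mul_apply, ← map_mul, mul_inv_cancel, map_one, MulAut.one_apply])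
            map_mul' := fun a b => Subtype.ext (map_mul (τ σ) (a : H) b) }
        map_one' := MulEquiv.ext fun y => Subtype.ext (by show τ 1 y = _; rw [map_one]; rfl)
        map_mul' := fun a b => MulEquiv.ext fun y => Subtype.ext (by show τ (a * b) y = _; rw [map_mul]; rfl) }
    have hlt : Nat.card M < n := by
      rw [← hn]
      exact lt_of_le_of_ne (Nat.le_of_dvd Nat.card_pos (Subgroup.card_subgroup_dvd_card M))
        fun h => hM (Subgroup.eq_top_of_card_eq M h)
    exact hinjα (ih _ hlt M rfl (hH.to_subgroup M) (fun h1 h2 => by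
      haveI := hexc h1 h2
      exact ⟨⟨fun a b => Subtype.ext (mul_comm' (a : H) b)⟩⟩) τM (α.comp M.subtype) (fun σ y => hcov σ y) σ ⟨x, hx⟩)
  set S := Subgroup.closure {x : H | ∃ σ h, x = τ σ h * h⁻¹} with hS
  have hSinv : ∀ σ, ∀ x ∈ S, τ σ x ∈ S := by
    intro σ x hx
    have : S ≤ S.comap (τ σ : H →* H) := by
      refine (Subgroup.closure_le _).2 ?_
      rintro _ ⟨ρ, h, rfl⟩
      show τ σ (τ ρ h * h⁻¹) ∈ S
      have e : τ σ (τ ρ h * h⁻¹) = (τ (σ * ρ) h * h⁻¹) * (τ σ h * h⁻¹)⁻¹ := by
        rw [map_mul, map_mul, MulAut.mul_apply, map_inv]; group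
      rw [e]
      exact mul_mem (Subgroup.subset_closure ⟨_, _, rfl⟩) (inv_mem (Subgroup.subset_closure ⟨_, _, rfl⟩))
    exact this hx
  by_cases hStop : S = ⊤
  swap
  · intro σ h
    rw [fixed_of_shift q hH hqr hE τ σ h (hprop S hStop hSinv σ _ (Subgroup.subset_closure ⟨σ, h, rfl⟩))]
  by_cases hfixall : ∀ σ h, τ σ h = h
  · intro σ h; rw [hfixall σ h]
  exfalso
  let F : Subgroup H :=
    { carrier := {h : H | ∀ σ, τ σ h = h}
      one_mem' := fun σ => map_one _
      mul_mem' := fun {a b} ha hb σ => by rw [map_mul, ha σ, hb σ]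
      inv_mem' := fun {a} ha σ => by rw [map_inv, ha σ] }
  have hFtop : F ≠ ⊤ := fun h => hfixall fun σ x => (h.ge (Subgroup.mem_top x)) σ
  haveI : Nontrivial H := by
    rcases subsingleton_or_nontrivial H with h | h
    · exact absurd (fun σ x => Subsingleton.elim _ _) hfixall
    · exact h
  haveI := hH.isNilpotent
  have hcomm : ∀ a b : H, ⁅a, b⁆ ∈ F := by
    intro a b σ
    refine hprop (commutator H) (Group.IsSolvable.commutator_lt_top_of_nontrivial H).ne ?_ σ _
      (Subgroup.commutator_mem_commutator (Subgroup.mem_top a) (Subgroup.mem_top b))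
    intro σ x hx
    have h : commutator H ≤ (commutator H).comap (τ σ : H →* H) := by
      rw [commutator_def, Subgroup.commutator_le]
      intro p _ p' _
      show τ σ ⁅p, p'⁆ ∈ (⁅(⊤ : Subgroup H), (⊤ : Subgroup H)⁆ : Subgroup H)
      rw [map_commutatorElement]
      exact Subgroup.commutator_mem_commutator (Subgroup.mem_top _) (Subgroup.mem_top _)
    exact h hx
  haveI hFn : F.Normal := ⟨fun f hf g => by
    rw [show g * f * g⁻¹ = ⁅g, f⁆ * f by rw [commutatorElement_def]; group]
    exact mul_mem (hcomm g f) hf⟩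
  have hFc : F ≤ Subgroup.center H := by
    intro c hc
    rw [Subgroup.mem_center_iff]
    have hle : S ≤ Subgroup.centralizer ({c} : Set H) := by
      refine (Subgroup.closure_le _).2 ?_
      rintro _ ⟨σ, h, rfl⟩
      rw [SetLike.mem_coe, Subgroup.mem_centralizer_iff]
      intro y hy
      rw [Set.mem_singleton_iff.1 hy]
      have h1 : τ σ (h⁻¹ * c * h) = h⁻¹ * c * h := by
        have := hFn.conj_mem c hc h⁻¹
        rw [inv_inv] at this
        exact this σ
      rw [map_mul, map_mul, map_inv, hc σ] at h1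
      calc c * (τ σ h * h⁻¹) = τ σ h * ((τ σ h)⁻¹ * c * τ σ h) * h⁻¹ := by group
        _ = τ σ h * (h⁻¹ * c * h) * h⁻¹ := by rw [h1]
        _ = τ σ h * h⁻¹ * c := by group
    intro g
    have hg : g ∈ Subgroup.centralizer ({c} : Set H) := hle (hStop.ge (Subgroup.mem_top g))
    exact (Subgroup.mem_centralizer_iff.1 hg c rfl).symm
  have hfpf : ∀ σ : E, σ ≠ 1 → ∀ h, τ σ h * h⁻¹ ∈ F → h ∈ F := fun σ hσ h hh =>
    fixed_all hE τ hσ (fixed_of_shift q hH hqr hE τ σ h (hh σ))
  have hHK : (Nat.card H : K) ≠ 0 := by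
    obtain ⟨k, hk⟩ := IsPGroup.iff_card.1 hH
    rw [hk, Nat.cast_pow]
    exact pow_ne_zero _ hqK
  by_cases hab : ∀ a b : H, ⁅a, b⁆ = 1
  · -- abelian: fixed point free
    letI : CommGroup H := { ‹Group H› with mul_comm := fun a b => commutatorElement_eq_one_iff_mul_comm.1 (hab a b) }
    letI : Fintype E := Fintype.ofFinite E
    let f : H →* H :=
      { toFun := fun h => ∏ σ : E, τ σ h
        map_one' := by simp
        map_mul' := fun a b => by simp [Finset.prod_mul_distrib] }
    have hf : ∀ s h, f (τ s h) = f h := fun s h => by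
      show ∏ σ : E, τ σ (τ s h) = ∏ σ : E, τ σ h
      exact Fintype.prod_equiv (Equiv.mulRight s) _ _ fun σ => by rw [Equiv.coe_mulRight, map_mul, MulAut.mul_apply]
    have hker : f.ker = ⊤ := top_unique (hStop.ge.trans ((Subgroup.closure_le _).2 (by
      rintro _ ⟨σ, h, rfl⟩
      rw [SetLike.mem_coe, MonoidHom.mem_ker, map_mul, hf, map_inv, mul_inv_cancel])))
    have hfix1 : ∀ c ∈ F, c = 1 := by
      intro c hc
      have h1 : f c = 1 := hker.ge (Subgroup.mem_top c)
      have h2 : f c = c ^ r := by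
        show ∏ σ : E, τ σ c = c ^ r
        rw [Finset.prod_congr rfl fun σ _ => hc σ, Finset.prod_const, Finset.card_univ, ← Nat.card_eq_fintype_card, hE]
      obtain ⟨m, hm⟩ := hH c
      have hdvd : orderOf c ∣ Nat.gcd r (q ^ m) :=
        Nat.dvd_gcd (orderOf_dvd_of_pow_eq_one (h2 ▸ h1)) (orderOf_dvd_of_pow_eq_one hm)
      rw [show Nat.gcd r (q ^ m) = 1 from
        Nat.Coprime.pow_right m ((Nat.coprime_primes (Fact.out : r.Prime) (Fact.out : q.Prime)).2 hqr.symm),
        Nat.dvd_one, orderOf_eq_one_iff] at hdvd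
      exact hdvd
    have hform := CfsgLib.FrobAction.fixed_dim τ (fun σ hσ u hu => hfix1 u (fixed_all hE τ hσ hu)) hHK α β hcov
    have hb : CfsgLib.FrobAction.fixedSub (β : E → _) = ⊥ :=
      (Submodule.eq_bot_iff _).2 fun v hv => hno v (CfsgLib.FrobAction.mem_fixedSub.1 hv)
    rw [hb, inf_bot_eq, finrank_bot, mul_zero, zero_add, zero_add] at hform
    have htop := Submodule.eq_top_of_finrank_eq hform.symm
    refine hFtop (top_unique fun h _ => ?_)
    rw [hinj h (LinearMap.ext fun v => CfsgLib.FrobAction.mem_fixedSub.1 (htop.ge (Submodule.mem_top (x := v))) h)]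
    exact one_mem F
  · push_neg at hab
    obtain ⟨g0, h0, hne⟩ := hab
    obtain ⟨S0, α0, β0, hS0, hcov0, hno0, hscal, c, hc1, hc⟩ := exists_scalar_part F hFc τ (fun σ z hz => hz σ) α β
      hcov hno (hcomm g0 h0) (fun h => hne (hinj _ h)) hHK
    haveI : Nontrivial S0 := Submodule.nontrivial_iff_ne_bot.2 hS0
    have hmulc : ∀ g a b : H, ⁅g, a * b⁆ = ⁅g, a⁆ * ⁅g, b⁆ := fun g a b => by
      have h1 := Subgroup.mem_center_iff.1 (hFc (hcomm g b)) a
      calc ⁅g, a * b⁆ = ⁅g, a⁆ * (a * ⁅g, b⁆) * a⁻¹ := by simp only [commutatorElement_def]; group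
        _ = ⁅g, a⁆ * ⁅g, b⁆ := by rw [h1]; group
    let R : Subgroup H :=
      { carrier := {h : H | ∀ g : H, α0 ⁅g, h⁆ = 1}
        one_mem' := fun g => by rw [commutatorElement_one_right, map_one]
        mul_mem' := fun {a b} ha hb g => by rw [hmulc, map_mul, ha g, hb g, one_mul]
        inv_mem' := fun {a} ha g => by
          have h := hmulc g a a⁻¹
          rw [mul_inv_cancel, commutatorElement_one_right] at h
          have h1 := congrArg α0 h
          rwa [map_mul, ha g, one_mul, map_one, eq_comm] at h1 }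
    have hRtop : R ≠ ⊤ := by
      intro h
      have h1 : α0 ⁅g0, h0⁆ = 1 := (h.ge (Subgroup.mem_top h0)) g0
      rw [hc] at h1
      obtain ⟨v, hv⟩ := exists_ne (0 : S0)
      have h2 := LinearMap.congr_fun h1 v
      rw [LinearMap.smul_apply, Module.End.one_apply] at h2
      exact hc1 (smul_left_injective K hv (h2.trans (one_smul K v).symm))
    have hRinv : ∀ σ, ∀ x ∈ R, τ σ x ∈ R := by
      intro σ x hx g
      have h1 : ⁅g, τ σ x⁆ = τ σ ⁅τ σ⁻¹ g, x⁆ := by
        rw [map_commutatorElement, ← MulAut.mul_apply, ← map_mul, mul_inv_cancel, map_one, MulAut.one_apply]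
      rw [h1, hcomm _ _ σ]
      exact hx _
    have hRF : R ≤ F := fun x hx σ => hprop R hRtop hRinv σ x hx
    obtain ⟨d, hd, hrd⟩ := CfsgLib.SymplecticCore.index_eq r hE F hFc hcomm hFtop τ (fun σ z hz => hz σ) hfpf α0 hscal
      (fun h hh => by
        have hR : ¬ ∀ g, α0 ⁅g, h⁆ = 1 := fun hall => hh (hRF hall)
        push_neg at hR
        obtain ⟨g, hg⟩ := hR
        obtain ⟨c', hc'⟩ := hscal _ (hcomm g h)
        exact ⟨g, c', fun h1 => hg (by rw [hc', h1, one_smul]), hc'⟩)
      β0 hcov0 hHK hrK hno0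
    obtain ⟨m, hm⟩ := hH.index F
    obtain ⟨hq2, i, hi, -⟩ := fermat_arith (Fact.out : q.Prime) (Fact.out : r.Prime) hm
      (fun h => hFtop (Subgroup.index_eq_one.1 h)) hd hrd
    haveI := hexc hq2 ⟨i, hi⟩
    exact hne (commutatorElement_eq_one_iff_mul_comm.2 (mul_comm' g0 h0))

/-- The group of operators of the normaliser restricted to a subgroup, acting on it. -/
def conjAut {G : Type w} [Group G] (A B : Subgroup G) (h : A ≤ Subgroup.normalizer (B : Set G)) : A →* MulAut B :=
  (Subgroup.normalizerMonoidHom B).comp (Subgroup.inclusion h)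

theorem conjAut_apply {G : Type w} [Group G] (A B : Subgroup G) (h : A ≤ Subgroup.normalizer (B : Set G)) (a : A)
    (b : B) : ((conjAut A B h a b : B) : G) = (a : G) * b * (a : G)⁻¹ := rfl

/-- An elementary abelian subgroup normalised by `X` and `Q` gives a module over an algebraically closed field. -/
theorem exists_module {G : Type w} [Group G] [Finite G] (p : ℕ) [Fact p.Prime] (X Q V : Subgroup G)
    [IsMulCommutative V] (hVp : ∀ v ∈ V, v ^ p = 1) (hXQ : X ≤ Subgroup.normalizer (Q : Set G))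
    (hXV : X ≤ Subgroup.normalizer (V : Set G)) (hQV : Q ≤ Subgroup.normalizer (V : Set G))
    (hCV : V ⊓ Subgroup.centralizer (X : Set G) = ⊥) :
    ∃ (W : Type w) (_ : AddCommGroup W) (_ : Module (AlgebraicClosure (ZMod p)) W)
      (_ : FiniteDimensional (AlgebraicClosure (ZMod p)) W)
      (α : Q →* Module.End (AlgebraicClosure (ZMod p)) W) (β : X →* Module.End (AlgebraicClosure (ZMod p)) W),
      (∀ σ h, β σ * α h = α (conjAut X Q hXQ σ h) * β σ) ∧ (∀ v : W, (∀ σ, β σ v = v) → v = 0) ∧
      ∀ h, α h = 1 ↔ (h : G) ∈ Subgroup.centralizer (V : Set G) := by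
  classical
  letI : CommGroup V := { mul_comm := mul_comm' }
  have hVp' : ∀ a : Additive V, p • a = 0 := fun a => Subtype.ext (hVp (a.toMul : V) (a.toMul : V).2)
  letI : Module (ZMod p) (Additive V) := AddCommGroup.zmodModule (n := p) (G := Additive V) hVp'
  have : Module.Finite (ZMod p) (Additive V) := Module.Finite.of_finite
  let L : ∀ (A : Subgroup G), A ≤ Subgroup.normalizer (V : Set G) → (A →* Module.End (ZMod p) (Additive V)) :=
    fun A hA =>
      { toFun := fun a => AddMonoidHom.toZModLinearMap p (MonoidHom.toAdditive ((conjAut A V hA a : MulAut V) : V →* V))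
        map_one' := LinearMap.ext fun v => Subtype.ext (by
          show ((conjAut A V hA 1 (Additive.toMul v) : V) : G) = _
          rw [map_one]; rfl)
        map_mul' := fun a b => LinearMap.ext fun v => Subtype.ext (by
          show ((conjAut A V hA (a * b) (Additive.toMul v) : V) : G) = _
          rw [map_mul]; rfl) }
  let K := AlgebraicClosure (ZMod p)
  let bc := (Module.End.baseChangeHom (ZMod p) K (Additive V)).toMonoidHom
  refine ⟨TensorProduct (ZMod p) K (Additive V), inferInstance, inferInstance, inferInstance,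
    bc.comp (L Q hQV), bc.comp (L X hXV), fun σ h => ?_, fun v hv => ?_, fun h => ?_⟩
  · rw [MonoidHom.comp_apply, MonoidHom.comp_apply, MonoidHom.comp_apply, ← map_mul bc, ← map_mul bc]
    congr 1
    refine LinearMap.ext fun v => Subtype.ext ?_
    show (σ : G) * ((h : G) * (v.toMul : G) * (h : G)⁻¹) * (σ : G)⁻¹ =
      ((σ : G) * h * (σ : G)⁻¹) * ((σ : G) * (v.toMul : G) * (σ : G)⁻¹) * ((σ : G) * h * (σ : G)⁻¹)⁻¹
    group
  · have h0 : CfsgLib.FrobAction.fixedSub (L X hXV : X → Module.End (ZMod p) (Additive V)) = ⊥ := by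
      rw [Submodule.eq_bot_iff]
      intro a ha
      rw [CfsgLib.FrobAction.mem_fixedSub] at ha
      have hmem : ((a.toMul : V) : G) ∈ V ⊓ Subgroup.centralizer (X : Set G) := by
        refine Subgroup.mem_inf.2 ⟨(a.toMul : V).2, Subgroup.mem_centralizer_iff.2 fun x hx => ?_⟩
        have h1 : x * ((a.toMul : V) : G) * x⁻¹ = ((a.toMul : V) : G) := congrArg Subtype.val (ha ⟨x, hx⟩)
        exact mul_inv_eq_iff_eq_mul.1 h1
      rw [hCV, Subgroup.mem_bot] at hmem
      exact Subtype.ext hmem
    have h1 := CfsgLib.FrobAction.finrank_fixedSub_baseChange K (L X hXV : X → Module.End (ZMod p) (Additive V))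
    rw [h0, finrank_bot, Submodule.finrank_eq_zero] at h1
    have hmem : v ∈ CfsgLib.FrobAction.fixedSub fun i => LinearMap.baseChange K (L X hXV i) :=
      CfsgLib.FrobAction.mem_fixedSub.2 fun i => hv i
    rwa [h1, Submodule.mem_bot] at hmem
  · constructor
    · intro hh
      rw [Subgroup.mem_centralizer_iff]
      intro x hx
      have hL : L Q hQV h = 1 := by
        refine LinearMap.ext fun a => ?_
        have h1 := LinearMap.congr_fun hh ((1 : K) ⊗ₜ[ZMod p] a)
        exact Module.FaithfullyFlat.tensorProduct_mk_injective (A := ZMod p) (B := K) (Additive V) h1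
      have h2 : (h : G) * x * (h : G)⁻¹ = x := congrArg Subtype.val (LinearMap.congr_fun hL (Additive.ofMul (⟨x, hx⟩ : V)))
      exact (mul_inv_eq_iff_eq_mul.1 h2).symm
    · intro hh
      have hL : L Q hQV h = 1 := by
        refine LinearMap.ext fun a => Subtype.ext ?_
        show (h : G) * ((a.toMul : V) : G) * (h : G)⁻¹ = _
        rw [← Subgroup.mem_centralizer_iff.1 hh _ (a.toMul : V).2, mul_inv_cancel_right]
        rfl
      rw [MonoidHom.comp_apply, hL, map_one]

/-- A group of prime order without fixed points on an elementary abelian group centralises, modulo the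
centraliser of that group, every `q`-group it normalises, apart from the Fermat prime exception. -/
theorem commutator_centralizes {G : Type w} [Group G] [Finite G] {p q r : ℕ} [Fact p.Prime] [Fact q.Prime]
    [Fact r.Prime] (hpq : p ≠ q) (hpr : p ≠ r) (hqr : q ≠ r) (X Q V : Subgroup G) (hX : Nat.card X = r)
    (hQ : IsPGroup q Q) [IsMulCommutative V] (hVp : ∀ v ∈ V, v ^ p = 1)
    (hXQ : X ≤ Subgroup.normalizer (Q : Set G))
    (hXV : X ≤ Subgroup.normalizer (V : Set G)) (hQV : Q ≤ Subgroup.normalizer (V : Set G))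
    (hCV : V ⊓ Subgroup.centralizer (X : Set G) = ⊥) (hexc : q = 2 → (∃ n, r = 2 ^ n + 1) → IsMulCommutative Q) :
    ∀ x ∈ X, ∀ a ∈ Q, x * a * x⁻¹ * a⁻¹ ∈ Subgroup.centralizer (V : Set G) := by
  obtain ⟨W, _, _, _, α, β, hcov, hno, hker⟩ := exists_module p X Q V hVp hXQ hXV hQV hCV
  intro x hx a ha
  have hcast : ∀ n : ℕ, n.Prime → p ≠ n → (n : AlgebraicClosure (ZMod p)) ≠ 0 := fun n hn hne h => by
    rw [CharP.cast_eq_zero_iff (AlgebraicClosure (ZMod p)) p] at h
    exact hne ((Nat.prime_dvd_prime_iff_eq (Fact.out : p.Prime) hn).1 h)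
  have h := action_trivial (E := X) hqr (hcast q Fact.out hpq) (hcast r Fact.out hpr) hX hQ hexc (conjAut X Q hXQ) α β
    hcov hno ⟨x, hx⟩ ⟨a, ha⟩
  exact (hker (conjAut X Q hXQ ⟨x, hx⟩ ⟨a, ha⟩ * ⟨a, ha⟩⁻¹)).1
    (by rw [map_mul, h, ← map_mul, mul_inv_cancel, map_one])

end CfsgLib.QGroupModule
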