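import Cfsg.Agent.Lib.FrobAction.GaloisRing
import Cfsg.Agent.Lib.NilpotentCommute
import Cfsg.Prelude.Def_Solvable

/-!
A Frobenius group module in which the kernel fixes no vector is free over the complement.
-/

set_option autoImplicit false
set_option maxHeartbeats 1000000

namespace CfsgLib.FrobFree

universe uk uV uA

variable {k : Type uk} {V : Type uV} {A : Type uA} [Field k] [AddCommGroup V] [Module k V] [Group A] [Finite A]

/-- A `p`-group fixes a nonzero vector of the span of an orbit, in characteristic `p`. -/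
theorem exists_fixed_span {p : ℕ} [Fact p.Prime] {P : Type*} [Group P] [Finite P] (hP : IsPGroup p P) {M : Type*}
    [AddCommGroup M] [Module (ZMod p) M] [DistribMulAction P M] [SMulCommClass P (ZMod p) M] {v : M} (hv : v ≠ 0) :
    ∃ w : M, w ≠ 0 ∧ (∀ x : P, x • w = w) ∧ ∀ Q : AddSubgroup M, (∀ x : P, x • v ∈ Q) → w ∈ Q := by
  set S := Submodule.span (ZMod p) (Set.range fun x : P => x • v) with hS
  haveI hSfin : Module.Finite (ZMod p) S := Module.Finite.span_of_finite (ZMod p) (Set.finite_range _)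
  haveI : Finite S := Module.finite_of_finite (ZMod p)
  have hSinv : ∀ (x : P), ∀ w ∈ S, x • w ∈ S := by
    intro x w hw
    induction hw using Submodule.span_induction with
    | mem w hw =>
      obtain ⟨y, rfl⟩ := hw
      exact Submodule.subset_span ⟨x * y, mul_smul x y v⟩
    | zero => rw [smul_zero]; exact S.zero_mem
    | add a b _ _ ha hb => rw [smul_add]; exact S.add_mem ha hb
    | smul c a _ ha => rw [smul_comm]; exact S.smul_mem c ha
  letI : MulAction P S :=
    { smul := fun x w => ⟨x • (w : M), hSinv x w w.2⟩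
      one_smul := fun w => Subtype.ext (one_smul _ _)
      mul_smul := fun x y w => Subtype.ext (mul_smul x y (w : M)) }
  have hdvd : p ∣ Nat.card S := by
    have hne : v ∈ S := Submodule.subset_span ⟨1, one_smul _ v⟩
    haveI : Nontrivial S := ⟨⟨⟨v, hne⟩, 0, fun h => hv (congrArg Subtype.val h)⟩⟩
    rw [Module.natCard_eq_pow_finrank (K := ZMod p), Nat.card_zmod]
    exact dvd_pow_self p (Module.finrank_pos.ne')
  obtain ⟨w, hw, hw0⟩ := hP.exists_fixed_point_of_prime_dvd_card_of_fixed_point (α := S) hdvd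
    (a := (0 : S)) (fun x => Subtype.ext (smul_zero _))
  refine ⟨w, fun h => hw0 (Subtype.ext h).symm, fun x => congrArg Subtype.val (hw x), fun Q hQ => ?_⟩
  exact (Submodule.span_le (p := AddSubgroup.toZModSubmodule p Q)).mpr (by rintro _ ⟨x, rfl⟩; exact hQ x) w.2

/-- A kernel with invertible order. -/
theorem exists_coprime (ρ : Representation k A V) (F : Subgroup A) [F.Normal] (hnil : Group.IsNilpotent F)
    (hfix : ∀ v : V, (∀ f ∈ F, ρ f v = v) → v = 0) :
    ∃ K : Subgroup A, K.Normal ∧ K ≤ F ∧ (Nat.card K : k) ≠ 0 ∧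
      ∀ v : V, (∀ f ∈ K, ρ f v = v) → v = 0 := by
  classical
  rcases CharP.char_is_prime_or_zero k (ringChar k) with hp | h0
  swap
  · haveI : CharZero k := by
      haveI : CharP k 0 := h0 ▸ ringChar.charP k
      exact CharP.charP_to_charZero k
    exact ⟨F, inferInstance, le_rfl, Nat.cast_ne_zero.mpr Nat.card_pos.ne', hfix⟩
  set p := ringChar k with hpdef
  haveI : Fact p.Prime := ⟨hp⟩
  haveI hchar : CharP k p := ringChar.charP k
  obtain ⟨P, N, hN, hPN⟩ := CfsgLib.hasNormalPComplement_of_isNilpotent (p := p) hnil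
  haveI := hN
  have hNp : ¬ p ∣ Nat.card N := by
    rw [← hPN.index_eq_card]; exact P.not_dvd_index
  have hmem : ∀ x : F, (orderOf x).Coprime p → x ∈ N := by
    intro x hx
    rw [← QuotientGroup.eq_one_iff]
    have hQ : Nat.card (F ⧸ N) = Nat.card (P : Subgroup F) := hPN.symm.index_eq_card
    obtain ⟨j, hj⟩ := P.2.exists_card_eq
    have h1 : orderOf (QuotientGroup.mk' N x) ∣ p ^ j :=
      hj ▸ hQ ▸ orderOf_dvd_natCard _
    show QuotientGroup.mk' N x = 1
    exact orderOf_eq_one_iff.mp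
      (Nat.eq_one_of_dvd_coprimes (hx.pow_right j) (orderOf_map_dvd _ x) h1)
  refine ⟨N.map F.subtype, ⟨?_⟩, Subgroup.map_subtype_le N, ?_, fun v hv => ?_⟩
  · rintro _ ⟨y, hy, rfl⟩ a
    refine ⟨⟨a * y * a⁻¹, Subgroup.Normal.conj_mem inferInstance _ y.2 a⟩, hmem _ ?_, rfl⟩
    rw [← Subgroup.orderOf_coe]
    show (orderOf (a * (y : A) * a⁻¹)).Coprime p
    rw [show a * (y : A) * a⁻¹ = MulAut.conj a (y : A) from rfl, MulEquiv.orderOf_eq, Subgroup.orderOf_coe]
    refine Nat.Coprime.coprime_dvd_left ?_ ((hp.coprime_iff_not_dvd.mpr hNp).symm)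
    exact Subgroup.orderOf_dvd_natCard N hy
  · rw [Subgroup.card_map_of_injective F.subtype_injective, Ne, CharP.cast_eq_zero_iff k p]
    exact hNp
  · by_contra hv0
    have hp1 : ∀ w : V, p • w = 0 := fun w => by
      rw [← Nat.cast_smul_eq_nsmul k, CharP.cast_eq_zero, zero_smul]
    letI : Module (ZMod p) V := AddCommGroup.zmodModule hp1
    letI : DistribMulAction (P : Subgroup F) V :=
      DistribMulAction.compHom V (((ρ : A →* Module.End k V).comp F.subtype).comp (P : Subgroup F).subtype)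
    haveI : SMulCommClass (P : Subgroup F) (ZMod p) V := ⟨fun x c w => by
      obtain ⟨n, rfl⟩ := ZMod.natCast_zmod_surjective (n := p) c
      rw [Nat.cast_smul_eq_nsmul, Nat.cast_smul_eq_nsmul]
      exact map_nsmul (ρ ((x : F) : A)) n w⟩
    obtain ⟨w, hw0, hwf, hwQ⟩ := exists_fixed_span P.2 (M := V) hv0
    let Q : AddSubgroup V :=
      { carrier := {u | ∀ f ∈ N.map F.subtype, ρ f u = u}
        add_mem' := fun {a b} ha hb f hf => by rw [map_add, ha f hf, hb f hf]
        zero_mem' := fun f _ => map_zero _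
        neg_mem' := fun {a} ha f hf => by rw [map_neg, ha f hf] }
    have hSK : ∀ f ∈ N.map F.subtype, ρ f w = w := hwQ Q fun y => by
      intro f hf
      obtain ⟨f', hf', rfl⟩ := hf
      have h1 : (y : F)⁻¹ * f' * y ∈ N := by
        have := hN.conj_mem f' hf' (y : F)⁻¹
        rwa [inv_inv] at this
      show ρ _ (ρ ((y : F) : A) v) = ρ ((y : F) : A) v
      rw [← Module.End.mul_apply, ← map_mul,
        show F.subtype f' * ((y : F) : A) = ((y : F) : A) * F.subtype ((y : F)⁻¹ * f' * y) by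
          simp [mul_assoc],
        map_mul, Module.End.mul_apply, hv _ ⟨_, h1, rfl⟩]
    refine hw0 (hfix w fun f hf => ?_)
    obtain ⟨a, ha, b, hb, hab⟩ := Subgroup.mem_sup_of_normal_left.mp
      (hPN.sup_eq_top.symm ▸ Subgroup.mem_top (⟨f, hf⟩ : F))
    rw [show f = (a : A) * (b : A) from (congrArg Subtype.val hab).symm, map_mul, Module.End.mul_apply,
      show ρ (b : A) w = w from hwf ⟨b, hb⟩]
    exact hSK _ ⟨a, ha, rfl⟩

variable [DecidableEq A]

/-- The theorem. -/
theorem exists_free [FiniteDimensional k V] (ρ : Representation k A V) (F H : Subgroup A) [F.Normal]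
    (hnil : Group.IsNilpotent F) (hfpf : ∀ f ∈ F, ∀ h ∈ H, h ≠ 1 → Commute h f → f = 1)
    (hfix : ∀ v : V, (∀ f ∈ F, ρ f v = v) → v = 0) :
    ∃ W : Submodule k V, DirectSum.IsInternal (fun h : H => W.map (ρ (h : A))) := by
  classical
  haveI := Fintype.ofFinite A
  obtain ⟨K, hKn, hKF, hKk, hKfix⟩ := exists_coprime ρ F hnil hfix
  haveI := hKn
  haveI : Group.IsNilpotent (K.subgroupOf F) := inferInstance
  haveI : Group.IsNilpotent K := Group.nilpotent_of_mulEquiv (Subgroup.subgroupOfEquivOfLe hKF)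
  obtain ⟨n, hn⟩ := Group.IsNilpotent.nilpotent (G := K)
  let Z : ℕ → Subgroup A := fun i => (Subgroup.upperCentralSeries K i).map K.subtype
  have hZn : ∀ i, (Z i).Normal := fun i => inferInstance
  have hZK : ∀ i, Z i ≤ K := fun i => Subgroup.map_subtype_le _
  have hZmono : ∀ i j, i ≤ j → Z i ≤ Z j := fun i j h =>
    Subgroup.map_mono (Subgroup.upperCentralSeries_mono K h)
  have hZcomm : ∀ i, ∀ z ∈ Z (i + 1), ∀ y ∈ K, z * y * z⁻¹ * y⁻¹ ∈ Z i := by
    rintro i _ ⟨z, hz, rfl⟩ y hy
    exact ⟨_, Subgroup.mem_upperCentralSeries_succ_iff.mp hz ⟨y, hy⟩, rfl⟩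
  have hcard : ∀ i, (Nat.card (Z i) : k) ≠ 0 := fun i h => hKk (by
    obtain ⟨q, hq⟩ := Subgroup.card_dvd_of_le (hZK i)
    rw [hq, Nat.cast_mul, h, zero_mul])
  let e : ℕ → Module.End k V := fun i => (Nat.card (Z i) : k)⁻¹ • ∑ z : Z i, ρ (z : A)
  have he_left : ∀ i, ∀ z ∈ Z i, ρ z * e i = e i := fun i z hz => by
    simp only [e, mul_smul_comm, Finset.mul_sum, ← map_mul]
    congr 1
    exact Fintype.sum_equiv (Equiv.mulLeft (⟨z, hz⟩ : Z i)) _ _ fun _ => rfl
  have he_comm : ∀ i a, ρ a * e i = e i * ρ a := fun i a => by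
    simp only [e, mul_smul_comm, smul_mul_assoc, Finset.mul_sum, Finset.sum_mul, ← map_mul]
    congr 1
    haveI := hZn i
    refine Fintype.sum_equiv (MulAut.conjNormal a).toEquiv _ _ fun z => ?_
    congr 1
    simp [MulAut.conjNormal_apply]
  have he_right : ∀ i, ∀ z ∈ Z i, e i * ρ z = e i := fun i z hz => by rw [← he_comm, he_left i z hz]
  have he_ee : ∀ i j, i ≤ j → e i * e j = e j ∧ e j * e i = e j := by
    intro i j h
    have h1 : e j * e i = e j := by
      calc e j * e i = (Nat.card (Z i) : k)⁻¹ • ∑ z : Z i, e j * ρ (z : A) := by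
            simp only [e, mul_smul_comm, Finset.mul_sum]
        _ = (Nat.card (Z i) : k)⁻¹ • ∑ z : Z i, e j := by
            congr 1
            exact Finset.sum_congr rfl fun z _ => he_right j z (hZmono i j h z.2)
        _ = e j := by
            rw [Finset.sum_const, Finset.card_univ, ← Nat.card_eq_fintype_card, ← Nat.cast_smul_eq_nsmul k,
              smul_smul, inv_mul_cancel₀ (hcard i), one_smul]
    refine ⟨?_, h1⟩
    have h2 : e i * e j = e j * e i := by
      calc e i * e j = (Nat.card (Z i) : k)⁻¹ • ∑ z : Z i, ρ (z : A) * e j := by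
            simp only [e, smul_mul_assoc, Finset.sum_mul]
        _ = (Nat.card (Z i) : k)⁻¹ • ∑ z : Z i, e j * ρ (z : A) := by simp only [he_comm]
        _ = e j * e i := by simp only [e, mul_smul_comm, Finset.mul_sum]
    rw [h2, h1]
  have he0 : e 0 = 1 := by
    have hb : Z 0 = ⊥ := by simp [Z]
    haveI : Subsingleton (Z 0) := hb ▸ inferInstance
    haveI : Unique (Z 0) := uniqueOfSubsingleton 1
    simp [e]
    rw [show ((default : Z 0) : A) = 1 from Subgroup.mem_bot.mp (hb ▸ (default : Z 0).2), map_one]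
  have hen : e n = 0 := by
    refine LinearMap.ext fun v => hKfix _ fun f hf => ?_
    have hfn : f ∈ Z n := ⟨⟨f, hf⟩, by rw [hn]; exact Subgroup.mem_top _, rfl⟩
    rw [← Module.End.mul_apply, he_left n f hfn]
  let d : ℕ → Module.End k V := fun i => e i - e (i + 1)
  have hd_comm : ∀ i a, ρ a * d i = d i * ρ a := fun i a => by
    simp only [d, mul_sub, sub_mul, he_comm]
  have hd_sq : ∀ i, d i * d i = d i := fun i => by
    simp only [d, mul_sub, sub_mul, (he_ee i i le_rfl).1, (he_ee i (i + 1) (Nat.le_succ i)).1,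
      (he_ee i (i + 1) (Nat.le_succ i)).2, (he_ee (i + 1) (i + 1) le_rfl).1]
    abel
  have hd_lt : ∀ i j, i < j → d i * d j = 0 ∧ d j * d i = 0 := fun i j h => by
    constructor <;>
      simp only [d, mul_sub, sub_mul, (he_ee i j h.le).1, (he_ee i j h.le).2, (he_ee i (j + 1) (by omega)).1,
        (he_ee i (j + 1) (by omega)).2, (he_ee (i + 1) j h).1, (he_ee (i + 1) j h).2,
        (he_ee (i + 1) (j + 1) (by omega)).1, (he_ee (i + 1) (j + 1) (by omega)).2] <;> abel
  have hd_e : ∀ i, d i * e i = d i := fun i => by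
    simp only [d, sub_mul, (he_ee i i le_rfl).1, (he_ee i (i + 1) (Nat.le_succ i)).2]
  have hgen_mul : ∀ i z y, (d i * ρ z) * (d i * ρ y) = d i * ρ (z * y) := fun i z y => by
    calc (d i * ρ z) * (d i * ρ y) = d i * (ρ z * d i) * ρ y := by simp only [mul_assoc]
      _ = d i * d i * (ρ z * ρ y) := by rw [hd_comm]; simp only [mul_assoc]
      _ = _ := by rw [hd_sq, map_mul]
  let gens : Set (Module.End k V) := {r | ∃ i, ∃ z ∈ Z (i + 1), r = d i * ρ z}
  have hgens : ∀ a ∈ gens, ∀ b ∈ gens, a * b = b * a := by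
    rintro _ ⟨i, z, hz, rfl⟩ _ ⟨j, y, hy, rfl⟩
    rcases lt_trichotomy i j with h | rfl | h
    · rw [show d i * ρ z * (d j * ρ y) = d i * (ρ z * d j) * ρ y by simp only [mul_assoc],
        show d j * ρ y * (d i * ρ z) = d j * (ρ y * d i) * ρ z by simp only [mul_assoc], hd_comm, hd_comm,
        ← mul_assoc, ← mul_assoc, (hd_lt i j h).1, (hd_lt i j h).2, zero_mul, zero_mul, zero_mul]
    · rw [hgen_mul, hgen_mul,
        show z * y = (z * y * z⁻¹ * y⁻¹) * (y * z) by group, map_mul, ← mul_assoc]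
      congr 1
      calc d i * ρ (z * y * z⁻¹ * y⁻¹) = d i * (e i * ρ (z * y * z⁻¹ * y⁻¹)) := by rw [← mul_assoc, hd_e]
        _ = d i := by rw [he_right i _ (hZcomm i z hz y (hZK _ hy)), hd_e]
    · rw [show d i * ρ z * (d j * ρ y) = d i * (ρ z * d j) * ρ y by simp only [mul_assoc],
        show d j * ρ y * (d i * ρ z) = d j * (ρ y * d i) * ρ z by simp only [mul_assoc], hd_comm, hd_comm,
        ← mul_assoc, ← mul_assoc, (hd_lt j i h).2, (hd_lt j i h).1, zero_mul, zero_mul, zero_mul]
  set R := Algebra.adjoin k gens with hR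
  letI : CommRing R := Algebra.adjoinCommRingOfComm k hgens
  haveI : IsArtinianRing R := IsArtinianRing.of_finite k R
  have hconj : ∀ a : A, ∀ r ∈ R, ρ a * r * ρ a⁻¹ ∈ R := by
    intro a r hr
    induction hr using Algebra.adjoin_induction with
    | mem r hr =>
      obtain ⟨i, z, hz, rfl⟩ := hr
      refine Algebra.subset_adjoin ⟨i, a * z * a⁻¹, (hZn (i + 1)).conj_mem z hz a, ?_⟩
      rw [show ρ a * (d i * ρ z) * ρ a⁻¹ = (ρ a * d i) * (ρ z * ρ a⁻¹) by simp only [mul_assoc], hd_comm,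
        mul_assoc, ← map_mul, ← map_mul, ← mul_assoc]
    | algebraMap c =>
      rw [← Algebra.commutes c (ρ a), mul_assoc, ← map_mul, mul_inv_cancel, map_one, mul_one]
      exact Subalgebra.algebraMap_mem R c
    | add x y _ _ hx hy => rw [mul_add, add_mul]; exact R.add_mem hx hy
    | mul x y _ _ hx hy =>
      rw [show ρ a * (x * y) * ρ a⁻¹ = (ρ a * x * ρ a⁻¹) * (ρ a * y * ρ a⁻¹) by
        rw [show ρ a * x * ρ a⁻¹ * (ρ a * y * ρ a⁻¹) = ρ a * x * (ρ a⁻¹ * ρ a) * y * ρ a⁻¹ by
          simp only [mul_assoc], ← map_mul, inv_mul_cancel, map_one, mul_one]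
        simp only [mul_assoc]]
      exact R.mul_mem hx hy
  letI : MulSemiringAction H R :=
    { smul := fun h r => ⟨ρ (h : A) * r.1 * ρ (h : A)⁻¹, hconj _ _ r.2⟩
      one_smul := fun r => Subtype.ext (by
        show ρ ((1 : H) : A) * r.1 * ρ ((1 : H) : A)⁻¹ = r.1
        simp)
      mul_smul := fun g h r => Subtype.ext (by
        show ρ ((g * h : H) : A) * r.1 * ρ ((g * h : H) : A)⁻¹ =
          ρ (g : A) * (ρ (h : A) * r.1 * ρ (h : A)⁻¹) * ρ (g : A)⁻¹
        simp [map_mul, mul_assoc])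
      smul_zero := fun g => Subtype.ext (by
        show ρ (g : A) * 0 * ρ (g : A)⁻¹ = 0
        simp)
      smul_add := fun g x y => Subtype.ext (by
        show ρ (g : A) * (x.1 + y.1) * ρ (g : A)⁻¹ =
          ρ (g : A) * x.1 * ρ (g : A)⁻¹ + ρ (g : A) * y.1 * ρ (g : A)⁻¹
        rw [mul_add, add_mul])
      smul_one := fun g => Subtype.ext (by
        show ρ (g : A) * 1 * ρ (g : A)⁻¹ = 1
        rw [mul_one, ← map_mul, mul_inv_cancel, map_one])
      smul_mul := fun g x y => Subtype.ext (by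
        show ρ (g : A) * (x.1 * y.1) * ρ (g : A)⁻¹ =
          (ρ (g : A) * x.1 * ρ (g : A)⁻¹) * (ρ (g : A) * y.1 * ρ (g : A)⁻¹)
        rw [show ρ (g : A) * x.1 * ρ (g : A)⁻¹ * (ρ (g : A) * y.1 * ρ (g : A)⁻¹) =
          ρ (g : A) * x.1 * (ρ (g : A)⁻¹ * ρ (g : A)) * y.1 * ρ (g : A)⁻¹ by simp only [mul_assoc],
          ← map_mul, inv_mul_cancel, map_one, mul_one]
        simp only [mul_assoc]) }
  haveI := Fintype.ofFinite H
  refine CfsgLib.GaloisRing.isInternal (R := R) (G := H) ?_ (SubsemiringClass.subtype R) (ρ.comp H.subtype) ?_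
  · intro h hh m hm
    by_contra hc
    push Not at hc
    haveI := hm
    set π := Ideal.Quotient.mk m with hπ
    haveI : IsDomain (R ⧸ m) := inferInstance
    let g : ℕ → A → R := fun i z => if hz : z ∈ Z (i + 1) then ⟨d i * ρ z, Algebra.subset_adjoin ⟨i, z, hz, rfl⟩⟩ else 0
    have hg : ∀ i, ∀ z ∈ Z (i + 1), (g i z).1 = d i * ρ z := fun i z hz => by simp [g, hz]
    have htel : (∑ i ∈ Finset.range n, g i 1) = 1 := Subtype.ext (by
      rw [show ((∑ i ∈ Finset.range n, g i 1 : R) : Module.End k V) = R.val (∑ i ∈ Finset.range n, g i 1) from rfl,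
        map_sum]
      calc ∑ i ∈ Finset.range n, R.val (g i 1) = ∑ i ∈ Finset.range n, (e i - e (i + 1)) :=
            Finset.sum_congr rfl fun i _ => by
              show (g i 1).1 = _
              rw [hg i 1 (one_mem _), map_one, mul_one]
        _ = _ := by rw [Finset.sum_range_sub', he0, hen, sub_zero]; rfl)
    obtain ⟨i, -, hi⟩ : ∃ i ∈ Finset.range n, π (g i 1) ≠ 0 := by
      refine Finset.exists_ne_zero_of_sum_ne_zero ?_
      rw [← map_sum, htel, map_one]
      exact one_ne_zero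
    have hmul : ∀ z ∈ Z (i + 1), ∀ y ∈ Z (i + 1), π (g i z) * π (g i y) = π (g i (z * y)) := fun z hz y hy => by
      rw [← map_mul]
      exact congrArg π (Subtype.ext (by
        show (g i z).1 * (g i y).1 = (g i (z * y)).1
        rw [hg i z hz, hg i y hy, hg i _ (mul_mem hz hy), hgen_mul]))
    have h1 : π (g i 1) = 1 := by
      have := hmul 1 (one_mem _) 1 (one_mem _)
      rw [mul_one] at this
      exact mul_left_eq_self₀.mp this |>.resolve_right hi
    have hone : ∀ z ∈ Z (i + 1), π (g i z) = 1 := by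
      intro z hz
      have hmem : ∀ y : Z (i + 1), (y : A)⁻¹ * ((h : A) * y * (h : A)⁻¹) ∈ Z (i + 1) := fun y =>
        mul_mem (inv_mem y.2) ((hZn (i + 1)).conj_mem y y.2 h)
      have hinj : Function.Injective fun y : Z (i + 1) =>
          (⟨(y : A)⁻¹ * ((h : A) * y * (h : A)⁻¹), hmem y⟩ : Z (i + 1)) := by
        intro y y' e'
        have e2 := congrArg Subtype.val e'
        simp only at e2
        refine Subtype.ext (mul_inv_eq_one.mp (hfpf _ ?_ h h.2 (fun h0 => hh (Subtype.ext h0)) ?_)).symm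
        · exact hKF (hZK _ (mul_mem y'.2 (inv_mem y.2)))
        · show (h : A) * ((y' : A) * (y : A)⁻¹) = (y' : A) * (y : A)⁻¹ * (h : A)
          calc (h : A) * ((y' : A) * (y : A)⁻¹) = (y' : A) * ((y' : A)⁻¹ * ((h : A) * y' * (h : A)⁻¹)) * ((h : A) * (y : A)⁻¹) := by group
            _ = (y' : A) * ((y : A)⁻¹ * ((h : A) * y * (h : A)⁻¹)) * ((h : A) * (y : A)⁻¹) := by rw [e2]
            _ = _ := by group
      obtain ⟨y, hy⟩ := (Finite.injective_iff_surjective.mp hinj) ⟨z, hz⟩
      have hy' : (y : A)⁻¹ * ((h : A) * y * (h : A)⁻¹) = z := congrArg Subtype.val hy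
      have hcy : π (g i ((h : A) * y * (h : A)⁻¹)) = π (g i y) := by
        rw [← sub_eq_zero, ← map_sub, Ideal.Quotient.eq_zero_iff_mem]
        have h2 := hc (g i y)
        rwa [show h • g i (y : A) = g i ((h : A) * y * (h : A)⁻¹) from Subtype.ext (by
          show ρ (h : A) * (g i (y : A)).1 * ρ (h : A)⁻¹ = _
          rw [hg i _ y.2, hg i _ ((hZn (i + 1)).conj_mem y y.2 h),
            show ρ (h : A) * (d i * ρ (y : A)) * ρ (h : A)⁻¹ = (ρ (h : A) * d i) * (ρ (y : A) * ρ (h : A)⁻¹) by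
              simp only [mul_assoc], hd_comm, mul_assoc, ← map_mul, ← map_mul, ← mul_assoc])] at h2
      rw [← hy', ← hmul _ (inv_mem y.2) _ ((hZn (i + 1)).conj_mem y y.2 h), hcy,
        hmul _ (inv_mem y.2) _ y.2, inv_mul_cancel, h1]
    have hsum : (∑ z : Z (i + 1), g i (z : A)) = 0 := Subtype.ext (by
      rw [show ((∑ z : Z (i + 1), g i (z : A) : R) : Module.End k V) = R.val (∑ z : Z (i + 1), g i (z : A)) from rfl,
        map_sum]
      calc ∑ z : Z (i + 1), R.val (g i (z : A)) = ∑ z : Z (i + 1), d i * ρ (z : A) :=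
            Finset.sum_congr rfl fun z _ => hg i z z.2
        _ = (Nat.card (Z (i + 1)) : k) • (d i * e (i + 1)) := by
            simp only [e, mul_smul_comm, Finset.mul_sum, smul_smul, mul_inv_cancel₀ (hcard (i + 1)), one_smul]
        _ = 0 := by
            simp only [d, sub_mul, (he_ee i (i + 1) (Nat.le_succ i)).1, (he_ee (i + 1) (i + 1) le_rfl).1, sub_self,
              smul_zero])
    have h3 := congrArg π hsum
    rw [map_sum, map_zero, Finset.sum_congr rfl (fun (z : Z (i + 1)) _ => hone (z : A) z.2), Finset.sum_const, Finset.card_univ,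
      ← Nat.card_eq_fintype_card, nsmul_one] at h3
    have hu : IsUnit ((Nat.card (Z (i + 1)) : R ⧸ m)) := by
      have := (isUnit_iff_ne_zero.mpr (hcard (i + 1))).map (π.comp (algebraMap k R))
      rwa [map_natCast] at this
    exact not_isUnit_zero (h3 ▸ hu)
  · intro h r v
    show ρ (h : A) (r.1 v) = (ρ (h : A) * r.1 * ρ (h : A)⁻¹) (ρ (h : A) v)
    rw [← Module.End.mul_apply, ← Module.End.mul_apply, mul_assoc (ρ (h : A) * r.1), ← map_mul, inv_mul_cancel,
      map_one, mul_one]

end CfsgLib.FrobFree
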