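import Mathlib

/-!
Finite group actions on Artinian commutative rings with trivial inertia, and freeness of
compatible modules.
-/

set_option autoImplicit false

namespace CfsgLib.GaloisRing

open scoped Pointwise

universe uK uG uR

/-- A normal basis element has an invertible matrix of conjugates. -/
theorem exists_field {K : Type uK} [Field K] {G : Type uG} [Group G] [Finite G] [Fintype G]
    [MulSemiringAction G K] [FaithfulSMul G K] :
    ∃ θ : K, ∀ v : G → K, (∀ t : G, ∑ s, ((t * s) • θ) * v s = 0) → v = 0 := by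
  classical
  set F := FixedPoints.subfield G K
  set b := IsGalois.normalBasis F K
  refine ⟨b 1, fun v hv => ?_⟩
  let M : Matrix G G K := Matrix.of fun t s => (t * s) • b 1
  have hdet : M.det ≠ 0 := by
    intro h
    obtain ⟨a, ha, hav⟩ := Matrix.exists_vecMul_eq_zero_iff.mpr h
    apply ha
    -- the functional vanishes on a basis
    let L : K →ₗ[F] K :=
      ∑ t : G, a t • (MulSemiringAction.toAlgAut G F K t).toLinearMap
    have hL : L = 0 := by
      refine b.ext fun e => ?_
      obtain ⟨s, hs⟩ := FixedPoints.toAlgAut_surjective G K e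
      rw [IsGalois.normalBasis_apply, ← hs]
      have h2 := congrFun hav s
      simpa [L, M, Matrix.vecMul, dotProduct, mul_smul] using h2
    have hinj : Function.Injective fun t : G => MulSemiringAction.toRingHom G K t :=
      fun x y hxy => eq_of_smul_eq_smul fun z : K => RingHom.congr_fun hxy z
    have hli : LinearIndependent K fun t : G => (⇑(MulSemiringAction.toRingHom G K t).toMonoidHom : K → K) :=
      (linearIndependent_monoidHom K K).comp (fun t : G => (MulSemiringAction.toRingHom G K t).toMonoidHom)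
        fun x y hxy => hinj (RingHom.ext fun z => DFunLike.congr_fun hxy z)
    funext t
    refine Fintype.linearIndependent_iff.mp hli a ?_ t
    funext z
    have h3 := LinearMap.congr_fun hL z
    simpa [L] using h3
  have h4 : M.mulVec v = 0 := funext fun t => by
    simpa [M, Matrix.mulVec, dotProduct] using hv t
  exact Matrix.eq_zero_of_mulVec_eq_zero hdet h4

variable {R : Type uR} [CommRing R] {G : Type uG} [Group G] [Finite G] [Fintype G]
  [MulSemiringAction G R]

theorem isMaximal_smul (g : G) {m : Ideal R} (hm : m.IsMaximal) : (g • m).IsMaximal := by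
  haveI := hm
  rw [Ideal.pointwise_smul_eq_comap]
  exact Ideal.comap_isMaximal_of_equiv _

/-- The matrix of conjugates is invertible modulo `m` for a suitable value of `θ` modulo the
ideals of the orbit of `m`. -/
theorem exists_local (m : Ideal R) (hm : m.IsMaximal)
    (hin : ∀ h : G, h ≠ 1 → ∃ r : R, h • r - r ∉ m) :
    ∃ c : R, ∀ θ : R, θ - c ∈ m → (∀ g : G, g • m ≠ m → θ ∈ g • m) →
      ∀ v : G → R, (∀ t : G, ∑ s, ((t * s) • θ) * v s ∈ m) → ∀ s, v s ∈ m := by
  classical
  haveI := hm
  letI : Field (R ⧸ m) := Ideal.Quotient.field m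
  set S := MulAction.stabilizer G m
  have hS : ∀ s : S, ∀ x, x ∈ m → (s : G) • x ∈ m := fun s x hx => by
    have := Ideal.smul_mem_pointwise_smul (s : G) x m hx
    rwa [MulAction.mem_stabilizer_iff.mp s.2] at this
  let act : S → (R ⧸ m) →+* (R ⧸ m) := fun s => Ideal.Quotient.lift m
    ((Ideal.Quotient.mk m).comp (MulSemiringAction.toRingHom G R (s : G)))
    fun x hx => Ideal.Quotient.eq_zero_iff_mem.mpr (hS s x hx)
  letI : MulSemiringAction S (R ⧸ m) :=
    { smul := fun s x => act s x
      one_smul := fun x => by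
        obtain ⟨r, rfl⟩ := Ideal.Quotient.mk_surjective x
        exact congrArg (Ideal.Quotient.mk m) (one_smul G r)
      mul_smul := fun s t x => by
        obtain ⟨r, rfl⟩ := Ideal.Quotient.mk_surjective x
        exact congrArg (Ideal.Quotient.mk m) (mul_smul (s : G) (t : G) r)
      smul_zero := fun s => map_zero (act s)
      smul_add := fun s x y => map_add (act s) x y
      smul_one := fun s => map_one (act s)
      smul_mul := fun s x y => map_mul (act s) x y }
  have hmk : ∀ (s : S) (r : R), s • (Ideal.Quotient.mk m r) = Ideal.Quotient.mk m ((s : G) • r) :=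
    fun _ _ => rfl
  haveI : FaithfulSMul S (R ⧸ m) := ⟨fun {s t} hst => by
    by_contra hne
    have h1 : ((t : G))⁻¹ * s ≠ 1 := fun h => hne (Subtype.ext (inv_mul_eq_one.mp h).symm)
    obtain ⟨r, hr⟩ := hin _ h1
    apply hr
    rw [← Ideal.Quotient.eq_zero_iff_mem, map_sub, sub_eq_zero]
    have h2 := hst (Ideal.Quotient.mk m r)
    have h3 : t⁻¹ • s • (Ideal.Quotient.mk m r) = Ideal.Quotient.mk m r := by
      rw [h2, inv_smul_smul]
    rwa [← mul_smul, hmk] at h3⟩
  obtain ⟨θb, hθb⟩ := exists_field (K := R ⧸ m) (G := S)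
  obtain ⟨c, rfl⟩ := Ideal.Quotient.mk_surjective θb
  refine ⟨c, fun θ hθ hout v hv s₀ => ?_⟩
  have hzero : ∀ g : G, g ∉ S → g • θ ∈ m := by
    intro g hg
    have h1 := hout g⁻¹ fun h => hg (by
      rw [MulAction.mem_stabilizer_iff]
      conv_lhs => rw [← h, smul_inv_smul])
    rwa [Ideal.mem_inv_pointwise_smul_iff] at h1
  have hθ' : Ideal.Quotient.mk m θ = Ideal.Quotient.mk m c := Ideal.Quotient.eq.mpr hθ
  have key : (fun u : S => Ideal.Quotient.mk m (v (s₀ * u))) = 0 := by
    refine hθb _ fun w => ?_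
    have h1 := Ideal.Quotient.eq_zero_iff_mem.mpr (hv ((w : G) * s₀⁻¹))
    rw [map_sum] at h1
    rw [← h1, ← Equiv.sum_comp (Equiv.mulLeft s₀)]
    have h2 : ∀ u : G, u ∉ S →
        Ideal.Quotient.mk m (((w : G) * s₀⁻¹ * Equiv.mulLeft s₀ u) • θ * v (Equiv.mulLeft s₀ u)) = 0 := by
      intro u hu
      rw [map_mul, Ideal.Quotient.eq_zero_iff_mem.mpr (hzero _ ?_), zero_mul]
      simpa [mul_assoc, S.mul_mem_cancel_left w.2] using hu
    rw [← Finset.sum_subset (Finset.subset_univ (Finset.univ.filter (· ∈ S))) (fun u _ hu => h2 u (by simpa using hu)),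
      ← Finset.sum_subtype_eq_sum_filter, Finset.subtype_univ]
    refine Finset.sum_congr rfl fun u _ => ?_
    simp only [map_mul, Equiv.coe_mulLeft, mul_assoc, inv_mul_cancel_left]
    rw [← Subgroup.coe_mul, ← hmk, hθ']
  have h5 := congrFun key (1 : S)
  simpa [Ideal.Quotient.eq_zero_iff_mem] using h5

/-- An element with invertible matrix of conjugates. -/
theorem exists_det_isUnit [IsArtinianRing R] [DecidableEq G]
    (hin : ∀ h : G, h ≠ 1 → ∀ m : Ideal R, m.IsMaximal → ∃ r : R, h • r - r ∉ m) :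
    ∃ θ : R, IsUnit (Matrix.of fun t s : G => (t * s) • θ).det := by
  classical
  choose c hc using fun m : MaximalSpectrum R => exists_local m.1 m.2 (fun h hh => hin h hh m.1 m.2)
  -- a representative in every orbit
  obtain ⟨rep, hrep, hrep'⟩ : ∃ rep : MaximalSpectrum R → Prop,
      (∀ m : MaximalSpectrum R, ∃ g : G, ∀ n : MaximalSpectrum R, n.1 = g • m.1 → rep n) ∧
      (∀ m n : MaximalSpectrum R, rep m → rep n → (∃ g : G, n.1 = g • m.1) → m = n) := by
    let sid : Setoid (Ideal R) := MulAction.orbitRel G (Ideal R)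
    refine ⟨fun m => (Quotient.mk sid m.1).out = m.1, fun m => ?_, fun m n hm hn h => ?_⟩
    · obtain ⟨g, hg⟩ := MulAction.orbitRel_apply.mp (Quotient.mk_out (s := sid) m.1)
      refine ⟨g, fun n hn => ?_⟩
      have h1 : Quotient.mk sid n.1 = Quotient.mk sid m.1 :=
        Quotient.sound (MulAction.orbitRel_apply.mpr ⟨g, hn.symm⟩)
      show (Quotient.mk sid n.1).out = n.1
      rw [h1, ← hg, hn]
    · obtain ⟨g, hg⟩ := h
      have h1 : Quotient.mk sid n.1 = Quotient.mk sid m.1 :=
        Quotient.sound (MulAction.orbitRel_apply.mpr ⟨g, hg.symm⟩)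
      exact MaximalSpectrum.ext (by rw [← hm, ← hn, h1])
  have hcop : Pairwise (Function.onFun IsCoprime fun m : MaximalSpectrum R => m.1) := fun m n hmn =>
    Ideal.isCoprime_iff_sup_eq.mpr (m.2.coprime_of_ne n.2 fun h => hmn (MaximalSpectrum.ext h))
  obtain ⟨θ, hθ⟩ := Ideal.exists_forall_sub_mem_ideal hcop fun m => if rep m then c m else 0
  refine ⟨θ, ?_⟩
  set M : Matrix G G R := Matrix.of fun t s => (t * s) • θ with hM
  by_contra hu
  obtain ⟨m, hm, hdet⟩ := exists_max_ideal_of_mem_nonunits hu
  obtain ⟨g, hg⟩ := hrep ⟨m, hm⟩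
  set n : MaximalSpectrum R := ⟨g • m, isMaximal_smul g hm⟩
  have hn : rep n := hg n rfl
  have hdn : M.det ∈ n.1 := by
    have h1 : g • M.det ∈ n.1 := Ideal.smul_mem_pointwise_smul g _ m hdet
    have h2 : g • M.det = Equiv.Perm.sign (Equiv.mulLeft g) * M.det := by
      rw [← Matrix.det_permute (Equiv.mulLeft g) M]
      calc g • M.det = (MulSemiringAction.toRingHom G R g) M.det := rfl
        _ = _ := by
          rw [RingHom.map_det]
          congr 1
          ext t s
          simp [M, mul_assoc, mul_smul]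
    rw [h2] at h1
    rcases Int.units_eq_one_or (Equiv.Perm.sign (Equiv.mulLeft g)) with h3 | h3 <;> simpa [h3] using h1
  haveI := n.2
  letI : Field (R ⧸ n.1) := Ideal.Quotient.field n.1
  have h0 : (M.map (Ideal.Quotient.mk n.1)).det = 0 := by
    rw [← RingHom.mapMatrix_apply, ← RingHom.map_det, Ideal.Quotient.eq_zero_iff_mem]
    exact hdn
  obtain ⟨v, hv0, hv⟩ := Matrix.exists_mulVec_eq_zero_iff.mpr h0
  choose v' hv' using fun s => Ideal.Quotient.mk_surjective (v s)
  apply hv0
  funext s
  rw [← hv', Pi.zero_apply, Ideal.Quotient.eq_zero_iff_mem]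
  refine hc n θ (by simpa [hn] using hθ n) (fun h hh => ?_) v' (fun t => ?_) s
  · set n' : MaximalSpectrum R := ⟨h • n.1, isMaximal_smul h n.2⟩
    have hn' : ¬ rep n' := fun h' => hh (by
      rw [show h • n.1 = n'.1 from rfl, ← hrep' n n' hn h' ⟨h, rfl⟩])
    simpa [hn'] using hθ n'
  · rw [← Ideal.Quotient.eq_zero_iff_mem, map_sum]
    have h4 := congrFun hv t
    simpa [Matrix.mulVec, dotProduct, M, hv'] using h4

/-- Compatible modules are free over the group. -/
theorem isInternal [IsArtinianRing R] [DecidableEq G] {k V : Type*} [Field k] [AddCommGroup V] [Module k V]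
    (hin : ∀ h : G, h ≠ 1 → ∀ m : Ideal R, m.IsMaximal → ∃ r : R, h • r - r ∉ m)
    (ι : R →+* Module.End k V) (ρ : Representation k G V)
    (hcompat : ∀ (g : G) (r : R) (v : V), ρ g (ι r v) = ι (g • r) (ρ g v)) :
    ∃ W : Submodule k V, DirectSum.IsInternal fun h : G => W.map (ρ h) := by
  classical
  obtain ⟨θ, hθ⟩ := exists_det_isUnit hin
  set M : Matrix G G R := Matrix.of fun t s => (t * s) • θ with hM
  set N := M⁻¹
  have hMN : M * N = 1 := Matrix.mul_nonsing_inv M hθ
  have hNM : N * M = 1 := Matrix.nonsing_inv_mul M hθ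
  have hmul : ∀ (A B : Matrix G G R) (u : G → V) (i : G),
      ∑ j, ι (A i j) (∑ l, ι (B j l) (u l)) = ∑ l, ι ((A * B) i l) (u l) := by
    intro A B u i
    simp only [map_sum, Matrix.mul_apply, LinearMap.sum_apply, map_mul, Module.End.mul_apply]
    rw [Finset.sum_comm]
  have hone : ∀ (u : G → V) (i : G), ∑ l, ι ((1 : Matrix G G R) i l) (u l) = u i := by
    intro u i
    rw [Finset.sum_eq_single i]
    · simp
    · intro b _ hb
      simp [Matrix.one_apply_ne' hb]
    · simp
  have huniq : ∀ u u' : G → V, (∀ t, ∑ s, ι (M t s) (u s) = ∑ s, ι (M t s) (u' s)) → u = u' := by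
    intro u u' h
    funext i
    rw [← hone u i, ← hone u' i, ← hNM, ← hmul N M u i, ← hmul N M u' i]
    exact Finset.sum_congr rfl fun j _ => by rw [h j]
  let U : Submodule k V :=
    { carrier := {v | ∀ g, ρ g v = v}
      add_mem' := fun {a b} ha hb g => by rw [map_add, ha g, hb g]
      zero_mem' := fun g => map_zero _
      smul_mem' := fun c v hv g => by rw [map_smul, hv g] }
  let W : Submodule k V := U.map (ι θ)
  have hterm : ∀ (s : G), ∀ u ∈ U, ρ s (ι θ u) = ι (s • θ) u := fun s u hu => by rw [hcompat, hu s]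
  refine ⟨W, ?_⟩
  rw [DirectSum.isInternal_submodule_iff_iSupIndep_and_iSup_eq_top]
  refine ⟨?_, eq_top_iff.mpr fun w _ => ?_⟩
  · rw [iSupIndep_iff_finset_sum_eq_zero_imp_eq_zero]
    intro F x hx hsum s hs
    have hex : ∀ r : G, ∃ u ∈ U, (r ∈ F → x r = ι (r • θ) u) ∧ (r ∉ F → u = 0) := by
      intro r
      by_cases hr : r ∈ F
      · obtain ⟨w, ⟨u, hu, rfl⟩, hw⟩ := hx r hr
        exact ⟨u, hu, fun _ => by rw [← hw, hterm r u hu], fun h => absurd hr h⟩
      · exact ⟨0, U.zero_mem, fun h => absurd h hr, fun _ => rfl⟩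
    choose u huU hu1 hu0 using hex
    have hall : ∑ r, ι (r • θ) (u r) = 0 := by
      rw [← hsum, ← Finset.sum_subset (Finset.subset_univ F) (fun r _ hr => by rw [hu0 r hr, map_zero])]
      exact Finset.sum_congr rfl fun r hr => (hu1 r hr).symm
    have h0 : u = 0 := huniq u 0 fun t => by
      have h1 := congrArg (ρ t) hall
      rw [map_sum, map_zero] at h1
      simp only [hcompat, huU _ t, ← mul_smul] at h1
      simpa [M] using h1
    rw [hu1 s hs, h0, Pi.zero_apply, map_zero]
  · set u : G → V := fun s => ∑ t, ι (N s t) (ρ t w) with hu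
    have hsys : ∀ t, ∑ s, ι (M t s) (u s) = ρ t w := fun t => by
      rw [hu, hmul, hMN, hone]
    have hfix : ∀ s, u s ∈ U := by
      intro s r
      refine congrFun (huniq (fun s => ρ r (u s)) u fun t => ?_) s
      have h1 := congrArg (ρ r) (hsys (r⁻¹ * t))
      rw [map_sum] at h1
      simp only [hcompat, M, Matrix.of_apply, ← mul_smul] at h1
      rw [hsys t]
      rw [← Module.End.mul_apply, ← map_mul, mul_inv_cancel_left] at h1
      simpa [M, ← mul_assoc] using h1
    have h1 := hsys 1
    rw [map_one, Module.End.one_apply] at h1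
    rw [← h1]
    refine Submodule.sum_mem _ fun s _ => ?_
    refine Submodule.mem_iSup_of_mem s ⟨ι θ (u s), ⟨u s, hfix s, rfl⟩, ?_⟩
    rw [hterm s _ (hfix s)]
    simp [M]

end CfsgLib.GaloisRing
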