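import Mathlib
import Cfsg.Agent.Lib.FrobAction.Order
import Cfsg.Agent.Lib.Coprime
import Cfsg.Agent.Lib.CoprimeGen

/-!
A Frobenius group acting on an elementary abelian group with a one dimensional space fixed by the complement:
the derived group of the kernel acts trivially.
-/

set_option autoImplicit false
set_option linter.unusedSectionVars false
set_option maxHeartbeats 1000000

namespace CfsgLib.FrobPrime

open scoped commutatorElement

universe u

variable {G : Type u} [Group G] [Finite G]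

/-- Conjugation on a normalised abelian subgroup, as an endomorphism. -/
def conjEnd (V : Subgroup G) (g : Subgroup.normalizer (V : Set G)) : V →* V :=
  ((Subgroup.normalizerMonoidHom V g : MulAut V) : V →* V)

theorem conjEnd_apply (V : Subgroup G) (g : Subgroup.normalizer (V : Set G)) (v : V) :
    ((conjEnd V g v : V) : G) = (g : G) * v * (g : G)⁻¹ := rfl

theorem derived_centralizes (p : ℕ) [Fact p.Prime] (K R V : Subgroup G) [IsMulCommutative V]
    (hVp : ∀ v ∈ V, v ^ p = 1) (hKnil : Group.IsNilpotent K) (hRK : R ≤ Subgroup.normalizer (K : Set G))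
    (hfpf : ∀ e ∈ R, e ≠ 1 → ∀ u ∈ K, e * u = u * e → u = 1)
    (hKV : K ≤ Subgroup.normalizer (V : Set G)) (hRV : R ≤ Subgroup.normalizer (V : Set G))
    (hcop : (Nat.card ↥(K ⊔ R)).Coprime (Nat.card V)) (hCK : V ⊓ Subgroup.centralizer (K : Set G) = ⊥)
    (hCR : Nat.card ↥(V ⊓ Subgroup.centralizer (R : Set G)) ≤ p) :
    ⁅K, K⁆ ≤ Subgroup.centralizer (V : Set G) := by
  classical
  have hpp := (Fact.out : p.Prime)
  haveI := hKnil
  have hVgrp : IsPGroup p V := fun v => ⟨1, by rw [pow_one]; exact Subtype.ext (hVp v v.2)⟩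
  have hVs : Group.IsSolvable V := by
    haveI := hVgrp.isNilpotent
    infer_instance
  -- the order formula
  have formula : ∀ U W : Subgroup G, U ≤ K → R ≤ Subgroup.normalizer (U : Set G) → W ≤ V →
      U ⊔ R ≤ Subgroup.normalizer (W : Set G) → W ⊓ Subgroup.centralizer (U : Set G) = ⊥ →
      Nat.card W = Nat.card ↥(W ⊓ Subgroup.centralizer (R : Set G)) ^ Nat.card R := by
    intro U W hUK hRU hWV hX hCU
    haveI hU' : Group.IsNilpotent ↥(U.subgroupOf K) := Subgroup.isNilpotent _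
    haveI : Group.IsNilpotent U :=
      Group.nilpotent_of_surjective (Subgroup.subgroupOfEquivOfLe hUK).toMonoidHom (MulEquiv.surjective _)
    have hWs : Group.IsSolvable W :=
      Group.isSolvable_of_isSolvable_injective (f := Subgroup.inclusion hWV) (Subgroup.inclusion_injective _)
    have h := CfsgLib.FrobAction.order_formula U R hRU (fun e he he1 u hu => hfpf e he he1 u (hUK hu)) W hX
      ((hcop.coprime_dvd_left (Subgroup.card_dvd_of_le (sup_le_sup_right hUK R))).coprime_dvd_right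
        (Subgroup.card_dvd_of_le hWV)) hWs
    have h1 : W ⊓ Subgroup.centralizer ((U ⊔ R : Subgroup G) : Set G) = ⊥ :=
      eq_bot_iff.2 ((inf_le_inf_left W (Subgroup.centralizer_le (fun _ hx => Subgroup.mem_sup_left hx))).trans hCU.le)
    rw [h1, hCU, Subgroup.card_bot, one_pow, one_mul, mul_one] at h
    exact h
  have hV := formula K V le_rfl hRK le_rfl (sup_le hKV hRV) hCK
  -- a fixed point generates the fixed points
  have hfix : ∀ W : Subgroup G, W ≤ V → W ⊓ Subgroup.centralizer (R : Set G) ≠ ⊥ →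
      Nat.card W = Nat.card ↥(W ⊓ Subgroup.centralizer (R : Set G)) ^ Nat.card R → W = V := by
    intro W hWV hne hW
    have heq : W ⊓ Subgroup.centralizer (R : Set G) = V ⊓ Subgroup.centralizer (R : Set G) := by
      refine Subgroup.eq_of_le_of_card_ge (inf_le_inf_right _ hWV) (hCR.trans ?_)
      obtain ⟨n, hn⟩ := IsPGroup.iff_card.1 (hVgrp.to_le (inf_le_left.trans hWV : W ⊓ Subgroup.centralizer (R : Set G) ≤ V))
      rw [hn]
      rcases n with _ | n
      · exact absurd (Subgroup.eq_bot_of_card_eq _ (by rw [hn, pow_zero])) hne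
      · exact Nat.le_self_pow n.succ_ne_zero p
    refine Subgroup.eq_of_le_of_card_ge hWV ?_
    rw [hW, heq, ← hV]
  by_contra hnot
  set L := K ⊓ Subgroup.centralizer (V : Set G) with hL
  set Zs : ℕ → Subgroup G := fun i => (Subgroup.upperCentralSeries K i).map K.subtype with hZs
  have hex : ∃ i, ¬ Zs i ≤ L := by
    obtain ⟨n, hn⟩ := Group.IsNilpotent.nilpotent (G := K)
    refine ⟨n, fun hle => hnot ?_⟩
    have hKL : K ≤ L := by
      intro k hk
      exact hle ⟨⟨k, hk⟩, by rw [hn]; exact Subgroup.mem_top _, rfl⟩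
    rw [Subgroup.commutator_le]
    intro f hf g hg
    have hf' := (Subgroup.mem_inf.1 (hKL hf)).2
    have hg' := (Subgroup.mem_inf.1 (hKL hg)).2
    rw [commutatorElement_def]
    exact mul_mem (mul_mem (mul_mem hf' hg') (inv_mem hf')) (inv_mem hg')
  have hi := Nat.find_spec hex
  set i := Nat.find hex with hidef
  have hipos : i ≠ 0 := by
    intro h0
    apply hi
    rw [h0, hZs]
    simp
  set Z := Zs i with hZ
  have hZK : Z ≤ K := Subgroup.map_subtype_le _
  have hcen : ∀ z ∈ Z, ∀ k ∈ K, ⁅z, k⁆ ∈ L := by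
    intro z hz k hk
    have hprev : Zs (i - 1) ≤ L := not_not.1 (Nat.find_min hex (by omega))
    refine hprev ?_
    obtain ⟨z', hz', rfl⟩ := hz
    refine ⟨⁅z', (⟨k, hk⟩ : K)⁆, ?_, map_commutatorElement K.subtype z' ⟨k, hk⟩⟩
    rw [← Nat.sub_add_cancel (Nat.pos_of_ne_zero hipos)] at hz'
    have h := Subgroup.mem_upperCentralSeries_succ_iff.1 hz' ⟨k, hk⟩
    simpa [commutatorElement_def] using h
  haveI hZchar : (Subgroup.upperCentralSeries K i).Characteristic := inferInstance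
  obtain ⟨hRZ, hKZ⟩ : R ≤ Subgroup.normalizer (Z : Set G) ∧ K ≤ Subgroup.normalizer (Z : Set G) :=
    CfsgLib.le_normalizer_map_characteristic hRK (Subgroup.upperCentralSeries K i)
  have hC1 : V ⊓ Subgroup.centralizer (Z : Set G) = ⊥ := by
    by_contra hne
    have hX : K ⊔ R ≤ Subgroup.normalizer ((V ⊓ Subgroup.centralizer (Z : Set G) : Subgroup G) : Set G) := by
      have key : ∀ g, g ∈ Subgroup.normalizer (V : Set G) → g ∈ Subgroup.normalizer (Z : Set G) →
          g ∈ Subgroup.normalizer ((V ⊓ Subgroup.centralizer (Z : Set G) : Subgroup G) : Set G) := by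
        have half : ∀ g, g ∈ Subgroup.normalizer (V : Set G) → g ∈ Subgroup.normalizer (Z : Set G) →
            ∀ x ∈ V ⊓ Subgroup.centralizer (Z : Set G), g * x * g⁻¹ ∈ V ⊓ Subgroup.centralizer (Z : Set G) := by
          intro g hgV hgZ x hx
          refine Subgroup.mem_inf.2 ⟨(Subgroup.mem_normalizer_iff.1 hgV x).1 (Subgroup.mem_inf.1 hx).1, fun w hw => ?_⟩
          have hw' : g⁻¹ * w * g ∈ Z := by
            have := (Subgroup.mem_normalizer_iff.1 (inv_mem hgZ) w).1 hw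
            simpa using this
          have h := (Subgroup.mem_inf.1 hx).2 _ hw'
          calc w * (g * x * g⁻¹) = g * (g⁻¹ * w * g * x) * g⁻¹ := by group
            _ = g * (x * (g⁻¹ * w * g)) * g⁻¹ := by rw [h]
            _ = g * x * g⁻¹ * w := by group
        intro g hgV hgZ
        rw [Subgroup.mem_normalizer_iff]
        intro x
        refine ⟨half g hgV hgZ x, fun h => ?_⟩
        have := half g⁻¹ (inv_mem hgV) (inv_mem hgZ) _ h
        simpa [mul_assoc] using this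
      exact sup_le (fun g hg => key g (hKV hg) (hKZ hg)) (fun g hg => key g (hRV hg) (hRZ hg))
    have hW := formula K _ le_rfl hRK inf_le_left hX
      (eq_bot_iff.2 ((inf_le_inf_right _ inf_le_left).trans hCK.le))
    have hne2 : V ⊓ Subgroup.centralizer (Z : Set G) ⊓ Subgroup.centralizer (R : Set G) ≠ ⊥ := by
      intro h
      rw [h, Subgroup.card_bot, one_pow] at hW
      exact hne (Subgroup.eq_bot_of_card_eq _ hW)
    have hall := hfix _ inf_le_left hne2 hW
    exact hi (le_inf hZK (Subgroup.le_centralizer_iff.1 (hall.ge.trans inf_le_right)))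
  have hVne : V ≠ ⊥ := by
    intro h
    apply hnot
    intro x _
    rw [Subgroup.mem_centralizer_iff]
    intro v hv
    rw [h, SetLike.mem_coe, Subgroup.mem_bot] at hv
    rw [hv, one_mul, mul_one]
  obtain ⟨v0, hv0, hv01⟩ : ∃ v0 ∈ V ⊓ Subgroup.centralizer (R : Set G), v0 ≠ 1 := by
    by_contra hall
    push_neg at hall
    rw [(Subgroup.eq_bot_iff_forall _).2 hall, Subgroup.card_bot, one_pow] at hV
    exact hVne (Subgroup.eq_bot_of_card_eq _ hV)
  have hv0V := (Subgroup.mem_inf.1 hv0).1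
  set S := (fun z : G => z * v0 * z⁻¹) '' (Z : Set G) with hS
  set W := Subgroup.closure S with hW
  have hSV : S ⊆ (V : Set G) := by
    rintro _ ⟨z, hz, rfl⟩
    exact (Subgroup.mem_normalizer_iff.1 (hKV (hZK hz)) v0).1 hv0V
  have hnormW : ∀ g : G, (∀ s ∈ S, g * s * g⁻¹ ∈ S) → (∀ s ∈ S, g⁻¹ * s * g ∈ S) →
      g ∈ Subgroup.normalizer (W : Set G) := by
    intro g h1 h2
    have half : ∀ g : G, (∀ s ∈ S, g * s * g⁻¹ ∈ S) → ∀ w ∈ W, g * w * g⁻¹ ∈ W := by
      intro g h1 w hw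
      induction hw using Subgroup.closure_induction with
      | mem s hs => exact Subgroup.subset_closure (h1 s hs)
      | one => simp
      | mul a b _ _ ha hb =>
        rw [show g * (a * b) * g⁻¹ = (g * a * g⁻¹) * (g * b * g⁻¹) by group]
        exact mul_mem ha hb
      | inv a _ ha =>
        rw [show g * a⁻¹ * g⁻¹ = (g * a * g⁻¹)⁻¹ by group]
        exact inv_mem ha
    rw [Subgroup.mem_normalizer_iff]
    intro w
    refine ⟨half g h1 w, fun h => ?_⟩
    have := half g⁻¹ (by simpa using h2) _ h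
    simpa [mul_assoc] using this
  have hZW : Z ≤ Subgroup.normalizer (W : Set G) := by
    intro g hg
    refine hnormW g ?_ ?_
    · rintro _ ⟨z, hz, rfl⟩
      exact ⟨g * z, mul_mem hg hz, by group⟩
    · rintro _ ⟨z, hz, rfl⟩
      exact ⟨g⁻¹ * z, mul_mem (inv_mem hg) hz, by group⟩
  have hRW : R ≤ Subgroup.normalizer (W : Set G) := by
    have hone : ∀ g ∈ R, ∀ s ∈ S, g * s * g⁻¹ ∈ S := by
      rintro g hg _ ⟨z, hz, rfl⟩
      refine ⟨g * z * g⁻¹, (Subgroup.mem_normalizer_iff.1 (hRZ hg) z).1 hz, ?_⟩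
      have h : g⁻¹ * v0 * g = v0 := by
        rw [mul_assoc, ← (Subgroup.mem_inf.1 hv0).2 g hg, inv_mul_cancel_left]
      calc g * z * g⁻¹ * v0 * (g * z * g⁻¹)⁻¹ = g * z * (g⁻¹ * v0 * g) * z⁻¹ * g⁻¹ := by group
        _ = g * (z * v0 * z⁻¹) * g⁻¹ := by rw [h]; group
    intro g hg
    refine hnormW g (hone g hg) fun s hs => ?_
    simpa using hone g⁻¹ (inv_mem hg) s hs
  have hWV : W ≤ V := (Subgroup.closure_le V).2 hSV
  have hWtop : W = V := by
    refine hfix W hWV (fun h => hv01 (Subgroup.mem_bot.1 (h.le (Subgroup.mem_inf.2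
      ⟨Subgroup.subset_closure ⟨1, one_mem Z, by simp⟩, (Subgroup.mem_inf.1 hv0).2⟩))))
      (formula Z W hZK hRZ hWV (sup_le hZW hRW) (eq_bot_iff.2 ((inf_le_inf_right _ hWV).trans hC1.le)))
  apply hnot
  rw [Subgroup.commutator_le]
  intro f hf g hg
  letI : CommGroup V := { mul_comm := mul_comm' }
  let c : ∀ k : K, V →* V := fun k => conjEnd V ⟨k, hKV k.2⟩
  have hzc : ∀ (z : G) (hz : z ∈ Z) (k : K) (v : V), c k (c ⟨z, hZK hz⟩ v) = c ⟨z, hZK hz⟩ (c k v) := by
    intro z hz k v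
    apply Subtype.ext
    show (k : G) * (z * v * z⁻¹) * (k : G)⁻¹ = z * ((k : G) * v * (k : G)⁻¹) * z⁻¹
    have hl := (Subgroup.mem_inf.1 (hcen z hz k k.2)).2
    have hm : ((k : G) * z) * (v : G) * ((k : G) * z)⁻¹ ∈ V :=
      (Subgroup.mem_normalizer_iff.1 (hKV (mul_mem k.2 (hZK hz))) v).1 v.2
    have h1 := hl _ hm
    calc (k : G) * (z * v * z⁻¹) * (k : G)⁻¹ = ((k : G) * z) * v * ((k : G) * z)⁻¹ := by group
      _ = ⁅z, (k : G)⁆ * (((k : G) * z) * v * ((k : G) * z)⁻¹) * ⁅z, (k : G)⁆⁻¹ := by rw [← h1, mul_inv_cancel_right]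
      _ = z * ((k : G) * v * (k : G)⁻¹) * z⁻¹ := by rw [commutatorElement_def]; group
  -- the commutant and the bicommutant of the action of `Z`
  let Comm : (V →* V) → Prop := fun U => ∀ (z : G) (hz : z ∈ Z) (v : V), U (c ⟨z, hZK hz⟩ v) = c ⟨z, hZK hz⟩ (U v)
  let Bi : (V →* V) → Prop := fun T => ∀ U, Comm U → ∀ v, U (T v) = T (U v)
  set v0' : V := ⟨v0, hv0V⟩ with hv0'
  have hall : ∀ w : V, ∃ T, Bi T ∧ T v0' = w := by
    have key : ∀ w ∈ W, ∀ hwV : w ∈ V, ∃ T, Bi T ∧ T v0' = ⟨w, hwV⟩ := by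
      intro w hw
      induction hw using Subgroup.closure_induction with
      | mem s hs =>
        intro hwV
        obtain ⟨z, hz, rfl⟩ := hs
        exact ⟨c ⟨z, hZK hz⟩, fun U hU v => hU z hz v, Subtype.ext rfl⟩
      | one => exact fun _ => ⟨1, fun U _ v => by simp, Subtype.ext rfl⟩
      | mul a b ha hb iha ihb =>
        intro hwV
        obtain ⟨T1, hT1, h1⟩ := iha (hWV ha)
        obtain ⟨T2, hT2, h2⟩ := ihb (hWV hb)
        exact ⟨T1 * T2, fun U hU v => by simp [hT1 U hU v, hT2 U hU v], Subtype.ext (by simp [h1, h2])⟩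
      | inv a ha iha =>
        intro hwV
        obtain ⟨T1, hT1, h1⟩ := iha (hWV ha)
        exact ⟨T1⁻¹, fun U hU v => by simp [hT1 U hU v], Subtype.ext (by simp [h1])⟩
    exact fun w => key w (hWtop.ge w.2) w.2
  have hCk : ∀ k : K, Comm (c k) := fun k z hz v => hzc z hz k v
  obtain ⟨T, hT, hTv⟩ := hall (c ⟨f, hf⟩ v0')
  obtain ⟨T2, hT2, hT2v⟩ := hall (c ⟨g, hg⟩ v0')
  have hTC : Comm T := fun z hz v => (hT _ (hCk ⟨z, hZK hz⟩) v).symm
  have hfg : c ⟨f, hf⟩ (c ⟨g, hg⟩ v0') = c ⟨g, hg⟩ (c ⟨f, hf⟩ v0') := by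
    calc c ⟨f, hf⟩ (c ⟨g, hg⟩ v0') = T2 (c ⟨f, hf⟩ v0') := by rw [← hT2v, hT2 _ (hCk _)]
      _ = T (T2 v0') := by rw [← hTv, hT2 T hTC]
      _ = c ⟨g, hg⟩ (c ⟨f, hf⟩ v0') := by rw [hT2v, ← hT _ (hCk _), hTv]
  have heq : ∀ v : V, c ⟨f, hf⟩ (c ⟨g, hg⟩ v) = c ⟨g, hg⟩ (c ⟨f, hf⟩ v) := by
    intro v
    obtain ⟨T, hT, rfl⟩ := hall v
    rw [hT _ (hCk ⟨g, hg⟩), hT _ (hCk ⟨f, hf⟩), hT _ (hCk ⟨f, hf⟩), hT _ (hCk ⟨g, hg⟩), hfg]
  rw [Subgroup.mem_centralizer_iff]
  intro v hv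
  have hmem : f⁻¹ * g⁻¹ * ⁅f, g⁆⁻¹ * v * (f⁻¹ * g⁻¹ * ⁅f, g⁆⁻¹)⁻¹ ∈ V :=
    (Subgroup.mem_normalizer_iff.1 (mul_mem (mul_mem (inv_mem (hKV hf)) (inv_mem (hKV hg)))
      (inv_mem (by rw [commutatorElement_def]
                   exact mul_mem (mul_mem (mul_mem (hKV hf) (hKV hg)) (inv_mem (hKV hf))) (inv_mem (hKV hg))))) v).1 hv
  have h := congrArg Subtype.val (heq ⟨g⁻¹ * f⁻¹ * v * (g⁻¹ * f⁻¹)⁻¹,
    (Subgroup.mem_normalizer_iff.1 (mul_mem (inv_mem (hKV hg)) (inv_mem (hKV hf))) v).1 hv⟩)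
  simp only [c, conjEnd_apply] at h
  have h1 : f * (g * (g⁻¹ * f⁻¹ * v * (g⁻¹ * f⁻¹)⁻¹) * g⁻¹) * f⁻¹ = v := by group
  rw [h1] at h
  have h2 : g * (f * (g⁻¹ * f⁻¹ * v * (g⁻¹ * f⁻¹)⁻¹) * f⁻¹) * g⁻¹ = ⁅g, f⁆ * v * ⁅g, f⁆⁻¹ := by
    rw [commutatorElement_def]; group
  rw [h2] at h
  rw [← commutatorElement_inv g f]
  calc v * ⁅g, f⁆⁻¹ = ⁅g, f⁆⁻¹ * (⁅g, f⁆ * v * ⁅g, f⁆⁻¹) := by group
    _ = ⁅g, f⁆⁻¹ * v := by rw [← h]

end CfsgLib.FrobPrime
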